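import Mathlib
import Cfsg.Agent.DGroup48.Defs
import Cfsg.Agent.Transfer.ThompsonTransfer
import Cfsg.Agent.S0205

/-!
D-group centralisers: structure of `H`, Sylow subgroups, fusion and transfer when the abelian part has
two involutions.
-/

set_option autoImplicit false

namespace CfsgLib.DGroup48

variable {G : Type*} [Group G]

/-- An involution central in `H`. -/
def IsCentralInv (H : Subgroup G) (j : G) : Prop :=
  j ∈ H ∧ orderOf j = 2 ∧ ∀ h ∈ H, h * j = j * h

theorem two_orderOf {a : G} (h : a * a = 1) (h1 : a ≠ 1) : orderOf a = 2 :=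
  orderOf_eq_prime (by rw [pow_two, h]) h1

theorem two_mul_self {a : G} (h : orderOf a = 2) : a * a = 1 := by
  rw [← pow_two, ← h, pow_orderOf_eq_one]

theorem two_ne_one {a : G} (h : orderOf a = 2) : a ≠ 1 := fun e => by simp [e] at h

theorem two_inv {a : G} (h : a * a = 1) : a⁻¹ = a := inv_eq_of_mul_eq_one_right h

theorem orderOf_conj_eq (g a : G) : orderOf (g * a * g⁻¹) = orderOf a :=
  (MulAut.conj g).orderOf_eq a

theorem commute_of_sq_eq_one {H : Subgroup G} (hel : ∀ x ∈ H, x ^ 2 = 1) {x y : G} (hx : x ∈ H)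
    (hy : y ∈ H) : x * y = y * x := by
  have h : ∀ z ∈ H, z⁻¹ = z := fun z hz => two_inv (by rw [← pow_two, hel z hz])
  calc x * y = (x * y)⁻¹ := (h _ (mul_mem hx hy)).symm
    _ = y * x := by rw [mul_inv_rev, h x hx, h y hy]

/-- `A` has index two in `H`, is abelian and is inverted by the elements of `H` outside it. -/
structure Inverted (H A : Subgroup G) : Prop where
  comm : ∀ a ∈ A, ∀ b ∈ A, a * b = b * a
  inv : ∀ x ∈ H, x ∉ A → ∀ a ∈ A, x * a * x⁻¹ = a⁻¹
  prod : ∀ x ∈ H, x ∉ A → ∀ y ∈ H, y ∉ A → x * y ∈ A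

variable {H A : Subgroup G}

theorem inverted_of_hyp (h : Hyp H A) (hnel : ¬ ∀ x ∈ H, x ^ 2 = 1) : Inverted H A := by
  have hA : A ≤ H := h.lt.le
  have hinv : ∀ x ∈ H, x ∉ A → ∀ a ∈ A, x * a * x⁻¹ = a⁻¹ := by
    intro x hx hxA a ha
    have h1 := h.sq (x * a) (mul_mem hx (hA ha))
      fun hm => hxA (by simpa using mul_mem hm (inv_mem ha))
    have h2 := h.sq x hx hxA
    rw [pow_two] at h1 h2
    rw [two_inv h2]
    calc x * a * x = x * a * x * a * a⁻¹ := by group
      _ = a⁻¹ := by rw [show x * a * x * a = x * a * (x * a) by group, h1, one_mul]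
  obtain ⟨x0, hx0, hx0A⟩ := SetLike.exists_of_lt h.lt
  refine ⟨fun a ha b hb => ?_, hinv, ?_⟩
  · have e := hinv x0 hx0 hx0A (a * b) (mul_mem ha hb)
    rw [show x0 * (a * b) * x0⁻¹ = (x0 * a * x0⁻¹) * (x0 * b * x0⁻¹) by group, hinv x0 hx0 hx0A a ha,
      hinv x0 hx0 hx0A b hb] at e
    have := congrArg (·⁻¹) e
    simpa using this.symm
  · intro x hx hxA y hy hyA
    by_contra hxy
    apply hnel
    intro z hz
    by_cases hzA : z ∈ A
    · have e := hinv _ (mul_mem hx hy) hxy z hzA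
      rw [show x * y * z * (x * y)⁻¹ = x * (y * z * y⁻¹) * x⁻¹ by group, hinv y hy hyA z hzA,
        hinv x hx hxA z⁻¹ (inv_mem hzA), inv_inv] at e
      calc z ^ 2 = z * z := pow_two z
        _ = z * z⁻¹ := congrArg (z * ·) e
        _ = 1 := mul_inv_cancel z
    · exact h.sq z hz hzA

theorem Inverted.conj_mem (I : Inverted H A) {g a : G} (hg : g ∈ H) (ha : a ∈ A) :
    g * a * g⁻¹ ∈ A := by
  by_cases hgA : g ∈ A
  · exact mul_mem (mul_mem hgA ha) (inv_mem hgA)
  · rw [I.inv g hg hgA a ha]; exact inv_mem ha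

theorem relIndex_inf_eq_two (I : Inverted H A) {S : Subgroup G} (hSH : S ≤ H) {x : G} (hx : x ∈ S)
    (hxA : x ∉ A) : (S ⊓ A).relIndex S = 2 := by
  rw [Subgroup.relIndex, Subgroup.index_eq_two_iff']
  refine ⟨⟨x, hx⟩, fun b => ?_⟩
  simp only [Subgroup.mem_subgroupOf, Subgroup.coe_mul, Subgroup.mem_inf]
  by_cases hb : (b : G) ∈ A
  · refine Or.inr ⟨⟨b.2, hb⟩, fun hm => hxA ?_⟩
    have h2 : x * b ∈ A := hm.2
    simpa using mul_mem h2 (inv_mem hb)
  · exact Or.inl ⟨⟨mul_mem hx b.2, I.prod x (hSH hx) hxA b (hSH b.2) hb⟩, fun hm => hb hm.2⟩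

/-- The structure of a D-group. -/
theorem hyp_structure (h : Hyp H A) :
    (∀ x ∈ H, x ^ 2 = 1) ∨ (A.relIndex H = 2 ∧ (∀ a ∈ A, ∀ b ∈ A, a * b = b * a) ∧
      ∀ x ∈ H, x ∉ A → ∀ a ∈ A, x * a * x⁻¹ = a⁻¹) := by
  by_cases hel : ∀ x ∈ H, x ^ 2 = 1
  · exact Or.inl hel
  have I := inverted_of_hyp h hel
  obtain ⟨x0, hx0, hx0A⟩ := SetLike.exists_of_lt h.lt
  have e := relIndex_inf_eq_two I le_rfl hx0 hx0A
  rw [inf_eq_right.2 h.lt.le] at e
  exact Or.inr ⟨e, I.comm, I.inv⟩

theorem isCentralInv_of_mem (I : Inverted H A) (h : Hyp H A) {j : G} (hjA : j ∈ A)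
    (hj : orderOf j = 2) : IsCentralInv H j := by
  refine ⟨h.lt.le hjA, hj, fun g hg => ?_⟩
  by_cases hgA : g ∈ A
  · exact I.comm g hgA j hjA
  · have e := I.inv g hg hgA j hjA
    rw [two_inv (two_mul_self hj)] at e
    exact mul_inv_eq_iff_eq_mul.1 e

theorem cent_conj (j g : G) :
    Subgroup.centralizer ({g * j * g⁻¹} : Set G) =
      (Subgroup.centralizer ({j} : Set G)).map (MulAut.conj g).toMonoidHom := by
  ext y
  rw [Subgroup.mem_centralizer_singleton_iff, Subgroup.mem_map]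
  constructor
  · intro hy
    refine ⟨g⁻¹ * y * g, Subgroup.mem_centralizer_singleton_iff.2 ?_, by
      rw [MulEquiv.coe_toMonoidHom, MulAut.conj_apply]; group⟩
    calc g⁻¹ * y * g * j = g⁻¹ * (y * (g * j * g⁻¹)) * g := by group
      _ = g⁻¹ * (g * j * g⁻¹ * y) * g := by rw [hy]
      _ = j * (g⁻¹ * y * g) := by group
  · rintro ⟨z, hz, rfl⟩
    rw [Subgroup.mem_centralizer_singleton_iff] at hz
    rw [MulEquiv.coe_toMonoidHom, MulAut.conj_apply]
    calc g * z * g⁻¹ * (g * j * g⁻¹) = g * (z * j) * g⁻¹ := by group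
      _ = g * j * g⁻¹ * (g * z * g⁻¹) := by rw [hz]; group

theorem Hyp.centralizer_conj (h : Hyp H A) {j : G} (hj : IsCentralInv H j) (g : G) :
    Subgroup.centralizer ({g * j * g⁻¹} : Set G) = H.map (MulAut.conj g).toMonoidHom := by
  rw [cent_conj, h.centralizer j hj.1 hj.2.1 hj.2.2]

theorem Hyp.mem_of_commute (h : Hyp H A) {j t : G} (hj : IsCentralInv H j) (ht : t * j = j * t) :
    t ∈ H := by
  rw [← h.centralizer j hj.1 hj.2.1 hj.2.2, Subgroup.mem_centralizer_singleton_iff]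
  exact ht

/-- An element with square in `H` moving a central involution to a central involution is in `H`. -/
theorem Hyp.mem_of_swap (h : Hyp H A) {t f : G} (ht2 : t * t ∈ H) (hf : IsCentralInv H f)
    (hf' : IsCentralInv H (t * f * t⁻¹)) : t ∈ H := by
  set f' := t * f * t⁻¹ with he
  have hback : t * f' * t⁻¹ = f := by
    rw [he, show t * (t * f * t⁻¹) * t⁻¹ = (t * t) * f * (t * t)⁻¹ by group, hf.2.2 _ ht2]
    group
  by_cases hff : f = f'
  · refine h.mem_of_commute hf ?_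
    rw [← mul_inv_eq_iff_eq_mul, ← he, ← hff]
  have hcom : f * f' = f' * f := hf'.2.2 f hf.1
  have hz : IsCentralInv H (f * f') := by
    refine ⟨mul_mem hf.1 hf'.1, two_orderOf ?_ ?_, fun g hg => ?_⟩
    · rw [show f * f' * (f * f') = f * (f' * f) * f' by group, ← hcom, ← mul_assoc f f f',
        two_mul_self hf.2.1, one_mul, two_mul_self hf'.2.1]
    · exact fun e => hff ((eq_inv_of_mul_eq_one_left e).trans (two_inv (two_mul_self hf'.2.1)))
    · calc g * (f * f') = g * f * f' := (mul_assoc _ _ _).symm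
        _ = f * (g * f') := by rw [hf.2.2 g hg, mul_assoc]
        _ = f * (f' * g) := by rw [hf'.2.2 g hg]
        _ = f * f' * g := (mul_assoc _ _ _).symm
  refine h.mem_of_commute hz ?_
  have e : t * (f * f') * t⁻¹ = f * f' := by
    rw [show t * (f * f') * t⁻¹ = f' * (t * f' * t⁻¹) by rw [he]; group, hback, hcom]
  exact mul_inv_eq_iff_eq_mul.1 e

/-- A criterion for the Sylow subgroups of `H` to be Sylow subgroups of `G`. -/
theorem exists_sylow_le [Finite G]
    (hfix : ∀ Q : Subgroup G, Q ≤ H → (∀ z, IsCentralInv H z → z ∈ Q) →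
      ∀ t : G, t ∈ Subgroup.normalizer (Q : Set G) → t * t ∈ Q → t ∈ H)
    {x : G} (hx : x ∈ H) (hx2 : x * x = 1) :
    ∃ T : Sylow 2 G, (T : Subgroup G) ≤ H ∧ x ∈ T := by
  haveI : Fact (Nat.Prime 2) := ⟨Nat.prime_two⟩
  have hpow : ∀ y : H, y * y = 1 → IsPGroup 2 (Subgroup.zpowers y) := fun y hy z => ⟨1, by
    obtain ⟨z, k, rfl⟩ := z
    refine Subtype.ext ?_
    show (y ^ k) ^ (2 ^ 1) = 1
    rw [pow_one, pow_two, ← zpow_add, ← two_mul, zpow_mul, zpow_two, hy, one_zpow]⟩
  obtain ⟨Q, hxQ⟩ := (hpow ⟨x, hx⟩ (Subtype.ext hx2)).exists_le_sylow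
  set Qm := (Q : Subgroup H).map H.subtype with hQm
  have hQH : Qm ≤ H := Subgroup.map_subtype_le _
  have hcen : ∀ z, IsCentralInv H z → z ∈ Qm := by
    intro z hz
    have hle : Subgroup.zpowers (⟨z, hz.1⟩ : H) ≤ Subgroup.normalizer ((Q : Subgroup H) : Set H) := by
      refine le_trans (Subgroup.zpowers_le.2 ?_) (Subgroup.centralizer_le_normalizer _)
      rw [Subgroup.mem_centralizer_iff]
      exact fun q _ => Subtype.ext (hz.2.2 q q.2)
    have hp := (hpow ⟨z, hz.1⟩ (Subtype.ext (two_mul_self hz.2.1))).to_sup_of_normal_right'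
      Q.isPGroup' hle
    refine ⟨⟨z, hz.1⟩, ?_, rfl⟩
    rw [← Q.is_maximal' hp le_sup_right]
    exact Subgroup.mem_sup_left (Subgroup.mem_zpowers _)
  have hQ2 : IsPGroup 2 Qm := Q.isPGroup'.map _
  obtain ⟨T, hQT⟩ := hQ2.exists_le_sylow
  have hTH : ∀ t ∈ (T : Subgroup G), t ∈ H → t ∈ Qm := by
    intro t ht htH
    have h1 : IsPGroup 2 ((T : Subgroup G).subgroupOf H) :=
      T.isPGroup'.comap_of_injective _ H.subtype_injective
    have h2 := Q.is_maximal' h1 fun q hq => hQT ⟨q, hq, rfl⟩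
    exact ⟨⟨t, htH⟩, h2 ▸ ht, rfl⟩
  refine ⟨T, ?_, hQT ⟨⟨x, hx⟩, hxQ (Subgroup.mem_zpowers _), rfl⟩⟩
  by_contra hne
  have hlt : Qm.subgroupOf (T : Subgroup G) < ⊤ :=
    lt_top_iff_ne_top.2 fun e => hne ((Subgroup.subgroupOf_eq_top.1 e).trans hQH)
  haveI : Group.IsNilpotent (T : Subgroup G) := T.isPGroup'.isNilpotent
  obtain ⟨t, htN, htQ⟩ := SetLike.exists_of_lt (Group.normalizerCondition_of_isNilpotent _ hlt)
  -- pass to a power whose square is in `Qm`
  have hex : ∃ k, t ^ (2 ^ k) ∈ Qm.subgroupOf (T : Subgroup G) := by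
    obtain ⟨k, hk⟩ := T.isPGroup' t
    exact ⟨k, by rw [hk]; exact one_mem _⟩
  classical
  have hk0 : Nat.find hex ≠ 0 := fun e => htQ (by simpa [e] using Nat.find_spec hex)
  obtain ⟨k, hk⟩ := Nat.exists_eq_succ_of_ne_zero hk0
  set s := t ^ (2 ^ k) with hs
  have hsN : s ∈ Subgroup.normalizer ((Qm.subgroupOf (T : Subgroup G)) : Set (T : Subgroup G)) :=
    pow_mem htN _
  have hsQ : s ∉ Qm.subgroupOf (T : Subgroup G) := Nat.find_min hex (by omega)
  have hs2 : ((s : G)) * s ∈ Qm := by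
    have h1 := Nat.find_spec hex
    rw [hk, pow_succ, pow_mul, ← hs, pow_two] at h1
    exact h1
  have hsnorm : (s : G) ∈ Subgroup.normalizer (Qm : Set G) := by
    rw [Subgroup.mem_normalizer_iff]
    intro y
    by_cases hy : y ∈ (T : Subgroup G)
    · exact (Subgroup.mem_normalizer_iff.1 hsN ⟨y, hy⟩)
    · refine ⟨fun h => absurd (hQT h) hy, fun h => absurd ?_ hy⟩
      have := mul_mem (mul_mem (inv_mem s.2) (hQT h)) s.2
      simpa [mul_assoc] using this
  exact hsQ (hTH s s.2 (hfix Qm hQH hcen s hsnorm hs2))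

theorem exists_conj_mem_sylow [Finite G] (T : Sylow 2 G) {g : G} (hg : orderOf g = 2) :
    ∃ x : G, x * g * x⁻¹ ∈ (T : Subgroup G) := by
  haveI : Fact (Nat.Prime 2) := ⟨Nat.prime_two⟩
  obtain ⟨P, hP⟩ := (IsPGroup.of_card (n := 1) (G := Subgroup.zpowers g)
    (by rw [Nat.card_zpowers, hg, pow_one])).exists_le_sylow
  obtain ⟨x, hx⟩ := MulAction.exists_smul_eq G P T
  refine ⟨x, ?_⟩
  rw [← hx]
  exact Subgroup.mem_map.mpr ⟨g, hP (Subgroup.mem_zpowers g), by simp⟩

/-- A finite group with a cyclic Sylow `2`-subgroup is solvable. -/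
theorem solvable_of_cyclic {K : Type*} [Group K] [Finite K] (T : Sylow 2 K)
    (hT : IsCyclic (T : Subgroup K)) : Group.IsSolvable K := by
  haveI : Fact (Nat.Prime 2) := ⟨Nat.prime_two⟩
  by_cases heven : Even (Nat.card K)
  swap
  · exact Cfsg.Agent.S0205.result (Nat.not_even_iff_odd.1 heven)
  have hmin : (Nat.card K).minFac = 2 := (Nat.minFac_eq_two_iff _).mpr (even_iff_two_dvd.mp heven)
  set φ := MonoidHom.transferSylow T (hT.normalizer_le_centralizer hmin)
  have hc : φ.ker.IsComplement' (T : Subgroup K) := hT.isComplement' hmin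
  have hodd : Odd (Nat.card φ.ker) := by
    rw [← hc.index_eq_card, ← Nat.not_even_iff_odd, even_iff_two_dvd]
    exact T.not_dvd_index
  haveI := Cfsg.Agent.S0205.result hodd
  haveI : Group.IsSolvable (T : Subgroup K) :=
    haveI := T.isPGroup'.isNilpotent
    inferInstance
  exact solvable_of_ker_le_range φ.ker.subtype φ (by rw [Subgroup.range_subtype])

/-- A finite group with a normal Sylow `2`-subgroup is solvable. -/
theorem solvable_of_normal {K : Type*} [Group K] [Finite K] (T : Sylow 2 K)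
    (hT : (T : Subgroup K).Normal) : Group.IsSolvable K := by
  haveI : Fact (Nat.Prime 2) := ⟨Nat.prime_two⟩
  have hodd : Odd (Nat.card (K ⧸ (T : Subgroup K))) := by
    rw [← Subgroup.index_eq_card, ← Nat.not_even_iff_odd, even_iff_two_dvd]
    exact T.not_dvd_index
  haveI := Cfsg.Agent.S0205.result hodd
  haveI : Group.IsSolvable (T : Subgroup K) :=
    haveI := T.isPGroup'.isNilpotent
    inferInstance
  exact solvable_of_ker_le_range (T : Subgroup K).subtype (QuotientGroup.mk' (T : Subgroup K))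
    (by rw [QuotientGroup.ker_mk', Subgroup.range_subtype])

section RankTwo

variable [Finite G] {e e' : G}

/-- One of `e`, `e'`, `e e'` is carried into `A` by a homomorphism into `H`. -/
theorem exists_map_mem (I : Inverted H A) (h : Hyp H A) (heA : e ∈ A) (he'A : e' ∈ A)
    (he : orderOf e = 2) (he' : orderOf e' = 2) (hne : e ≠ e') (φ : G →* G)
    (hφ : ∀ f, IsCentralInv H f → φ f ∈ H) : ∃ f, IsCentralInv H f ∧ φ f ∈ A := by
  have hee : orderOf (e * e') = 2 := two_orderOf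
    (by rw [show e * e' * (e * e') = e * (e' * e) * e' by group, ← I.comm e heA e' he'A,
      ← mul_assoc e e e', two_mul_self he, one_mul, two_mul_self he'])
    (fun hh => hne ((eq_inv_of_mul_eq_one_left hh).trans (two_inv (two_mul_self he'))))
  have c1 := isCentralInv_of_mem I h heA he
  have c2 := isCentralInv_of_mem I h he'A he'
  by_cases h1 : φ e ∈ A
  · exact ⟨e, c1, h1⟩
  by_cases h2 : φ e' ∈ A
  · exact ⟨e', c2, h2⟩
  refine ⟨e * e', isCentralInv_of_mem I h (mul_mem heA he'A) hee, ?_⟩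
  rw [map_mul]
  exact I.prod _ (hφ e c1) h1 _ (hφ e' c2) h2

variable (h : Hyp H A) (hnel : ¬ ∀ x ∈ H, x ^ 2 = 1) (heA : e ∈ A) (he'A : e' ∈ A)
  (he : orderOf e = 2) (he' : orderOf e' = 2) (hne : e ≠ e')
include h hnel heA he'A he he' hne

theorem exists_sylow_rank_two {x : G} (hx : x ∈ H) (hx2 : x * x = 1) :
    ∃ T : Sylow 2 G, (T : Subgroup G) ≤ H ∧ x ∈ T := by
  have I := inverted_of_hyp h hnel
  refine exists_sylow_le (fun Q hQ hcen t ht ht2 => ?_) hx hx2
  obtain ⟨f, hf, hfA⟩ := exists_map_mem I h heA he'A he he' hne (MulAut.conj t).toMonoidHom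
    fun f hf => hQ ((Subgroup.mem_normalizer_iff.1 ht f).1 (hcen f hf))
  rw [MulEquiv.coe_toMonoidHom, MulAut.conj_apply] at hfA
  exact h.mem_of_swap (hQ ht2) hf
    (isCentralInv_of_mem I h hfA ((orderOf_conj_eq t f).trans hf.2.1))

/-- No element outside `A` is conjugate to an involution of `A`. -/
theorem not_conj_rank_two {x f g : G} (hx : x ∈ H) (hxA : x ∉ A) (hfA : f ∈ A) (hf : orderOf f = 2) :
    g * f * g⁻¹ ≠ x := by
  intro hgx
  apply hnel
  have I := inverted_of_hyp h hnel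
  have hfc := isCentralInv_of_mem I h hfA hf
  have hC : Subgroup.centralizer ({x} : Set G) = H.map (MulAut.conj g).toMonoidHom := by
    rw [← hgx]; exact h.centralizer_conj hfc g
  obtain ⟨f2, hf2, hf2A⟩ := exists_map_mem I h heA he'A he he' hne (MulAut.conj g⁻¹).toMonoidHom
    fun f1 hf1 => by
      have hm : f1 ∈ Subgroup.centralizer ({x} : Set G) :=
        Subgroup.mem_centralizer_singleton_iff.2 (hf1.2.2 x hx).symm
      rw [hC] at hm
      obtain ⟨a, ha, rfl⟩ := hm
      simpa [MulAut.conj_apply, mul_assoc] using ha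
  rw [MulEquiv.coe_toMonoidHom, MulAut.conj_apply, inv_inv] at hf2A
  intro z hz
  by_cases hzA : z ∈ A
  · set y := g * z * g⁻¹ with hy
    have hyx : y * x = x * y := by
      rw [← hgx, hy, show g * z * g⁻¹ * (g * f * g⁻¹) = g * (z * f) * g⁻¹ by group, I.comm z hzA f hfA]
      group
    have hyH : y ∈ H := h.mem_of_commute hf2 (by
      rw [hy]
      calc g * z * g⁻¹ * f2 = g * (z * (g⁻¹ * f2 * g)) * g⁻¹ := by group
        _ = g * ((g⁻¹ * f2 * g) * z) * g⁻¹ := by rw [I.comm z hzA _ hf2A]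
        _ = f2 * (g * z * g⁻¹) := by group)
    have hy2 : y * y = 1 := by
      by_cases hyA : y ∈ A
      · have h1 := I.inv x hx hxA y hyA
        rw [← hyx, mul_inv_cancel_right] at h1
        exact mul_eq_one_iff_eq_inv.2 h1
      · rw [← pow_two]; exact h.sq y hyH hyA
    calc z ^ 2 = g⁻¹ * (y * y) * g := by rw [hy, pow_two]; group
      _ = 1 := by rw [hy2]; group
  · exact h.sq z hz hzA

/-- By Thompson transfer the derived group meets `H` inside `A`. -/
theorem commutator_inf_rank_two {x : G} (hx : x ∈ H) (hxK : x ∈ commutator G) : x ∈ A := by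
  by_contra hxA
  have I := inverted_of_hyp h hnel
  have hx2 : x * x = 1 := by rw [← pow_two]; exact h.sq x hx hxA
  obtain ⟨T, hTH, hxT⟩ := exists_sylow_rank_two h hnel heA he'A he he' hne hx hx2
  have ho : orderOf x = 2 := two_orderOf hx2 fun e1 => hxA (e1 ▸ one_mem A)
  rcases CfsgLib.Transfer.thompsonTransferLemma T ((T : Subgroup G) ⊓ A) inf_le_left
    (relIndex_inf_eq_two I hTH hxT hxA) x ho hxT (fun hm => hxA hm.2) with
    ⟨M, hM, hM2, hxM⟩ | ⟨g, hg⟩
  · refine hxM ?_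
    have hle : commutator G ≤ M := by
      haveI : Fact (Nat.Prime 2) := ⟨Nat.prime_two⟩
      haveI : IsCyclic (G ⧸ M) := isCyclic_of_prime_card (p := 2) (by rw [← Subgroup.index_eq_card, hM2])
      exact Subgroup.Normal.quotient_commutative_iff_commutator_le.1 inferInstance
    exact hle hxK
  · exact not_conj_rank_two h hnel heA he'A he he' hne hx hxA hg.2
      ((orderOf_conj_eq g x).trans ho) (g := g⁻¹) (by group)

end RankTwo

end CfsgLib.DGroup48
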