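import Mathlib
import Cfsg.Agent.DGroup48.AbelianBasic
import Cfsg.Agent.DGroup48.AbelianSL2
import Cfsg.Agent.CAGroups.SimpleAbelianCentralizers
import Cfsg.Agent.S2202

/-!
The cases of an elementary centraliser, and of two involutions in the abelian part.
-/

set_option autoImplicit false

namespace CfsgLib.DGroup48

open scoped MatrixGroups

variable {G : Type*} [Group G] [Finite G] {H A : Subgroup G}

/-- A field of characteristic two with more than two elements has at least four. -/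
theorem three_lt_card {F : Type*} [Field F] [Fintype F] [CharP F 2] (h : Fintype.card F ≠ 2) :
    3 < Fintype.card F := by
  obtain ⟨n, -, hn⟩ := FiniteField.card F 2
  rw [hn] at h ⊢
  rcases Nat.lt_or_ge (n : ℕ) 2 with h1 | h1
  · exact absurd (by rw [show (n : ℕ) = 1 from le_antisymm (by omega) n.one_le, pow_one]) h
  · calc 3 < 2 ^ 2 := by norm_num
      _ ≤ 2 ^ (n : ℕ) := Nat.pow_le_pow_right two_pos h1

/-- `SL₂(2) × B` with `B` odd has cyclic Sylow 2-subgroups. -/
theorem solvable_of_two {F B K : Type*} [Field F] [Fintype F] [Group B] [Finite B] [Group K] [Finite K]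
    (hF : Fintype.card F = 2) (hB : Odd (Nat.card B))
    (e : K ≃* Matrix.SpecialLinearGroup (Fin 2) F × B) : Group.IsSolvable K := by
  haveI : Fact (Nat.Prime 2) := ⟨Nat.prime_two⟩
  obtain ⟨T⟩ := (inferInstance : Nonempty (Sylow 2 K))
  refine solvable_of_cyclic T ?_
  have hcard : Nat.card K = 2 * (3 * Nat.card B) := by
    rw [Nat.card_congr e.toEquiv, Nat.card_prod, SL2.card_SL, hF]; ring
  obtain ⟨k, hk⟩ := IsPGroup.iff_card.1 T.isPGroup'
  have hdvd : Nat.card (T : Subgroup K) ∣ 2 * (3 * Nat.card B) := hcard ▸ Subgroup.card_subgroup_dvd_card _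
  have hle : k ≤ 1 := by
    by_contra hk1
    push Not at hk1
    rw [hk] at hdvd
    have h4 : 2 * 2 ∣ 2 * (3 * Nat.card B) := (pow_two 2 ▸ pow_dvd_pow 2 hk1).trans hdvd
    have h2 : 2 ∣ 3 * Nat.card B := (Nat.mul_dvd_mul_iff_left two_pos).1 h4
    exact Nat.not_even_iff_odd.2 (Odd.mul (by decide) hB) (even_iff_two_dvd.2 h2)
  rcases Nat.le_one_iff_eq_zero_or_eq_one.1 hle with rfl | rfl
  · haveI := (Nat.card_eq_one_iff_unique.1 (hk.trans (pow_zero 2))).1
    infer_instance
  · exact isCyclic_of_prime_card (hk.trans (pow_one 2))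

/-- The elementary case. -/
theorem conclusion_of_elementary (h : Hyp H A) (hns : ¬ Group.IsSolvable G)
    (hel : ∀ x ∈ H, x ^ 2 = 1) : Conclusion G := by
  haveI : Fact (Nat.Prime 2) := ⟨Nat.prime_two⟩
  have hcm : ∀ a ∈ H, ∀ b ∈ H, a * b = b * a := fun a ha b hb => commute_of_sq_eq_one hel ha hb
  have hcen : ∀ j ∈ H, j ≠ 1 → IsCentralInv H j := fun j hj hj1 =>
    ⟨hj, two_orderOf (by rw [← pow_two]; exact hel j hj) hj1, fun g hg => hcm g hg j hj⟩
  obtain ⟨x0, hx0, hx0A⟩ := SetLike.exists_of_lt h.lt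
  have hx01 : x0 ≠ 1 := fun e => hx0A (e ▸ one_mem A)
  obtain ⟨T, hTH, -⟩ := exists_sylow_le (H := H) (fun Q hQ hcQ t ht ht2 => by
      refine h.mem_of_swap (hQ ht2) (hcen x0 hx0 hx01) (hcen _ ?_ ?_)
      · exact hQ ((Subgroup.mem_normalizer_iff.1 ht x0).1 (hcQ x0 (hcen x0 hx0 hx01)))
      · exact fun e => hx01 (conj_eq_one_iff.1 e))
    hx0 (by rw [← pow_two]; exact hel x0 hx0)
  have hH2 : IsPGroup 2 H := fun z => ⟨1, Subtype.ext (by
    rw [pow_one, Subgroup.coe_pow, Subgroup.coe_one]; exact hel z z.2)⟩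
  have hTeq : H = (T : Subgroup G) := T.is_maximal' hH2 hTH
  have hdvd : 4 ∣ Nat.card G := h.four_dvd.trans (Subgroup.card_subgroup_dvd_card H)
  have heven : Even (Nat.card G) := even_iff_two_dvd.2 (dvd_trans (by norm_num) hdvd)
  have hconj : ∀ j : G, orderOf j = 2 → ∃ g, IsCentralInv H (g * j * g⁻¹) := fun j hj => by
    obtain ⟨g, hg⟩ := exists_conj_mem_sylow T hj
    exact ⟨g, hcen _ (hTH hg) fun e => two_ne_one hj (conj_eq_one_iff.1 e)⟩
  have hexp : ∀ j : G, orderOf j = 2 → ∀ c ∈ Subgroup.centralizer ({j} : Set G), c * c = 1 ∧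
      ∀ d ∈ Subgroup.centralizer ({j} : Set G), c * d = d * c := by
    intro j hj c hc
    obtain ⟨g, hg⟩ := hconj j hj
    have e : Subgroup.centralizer ({j} : Set G) = H.map (MulAut.conj g⁻¹).toMonoidHom := by
      rw [← h.centralizer_conj hg g⁻¹]; congr; group
    rw [e] at hc ⊢
    obtain ⟨c', hc', rfl⟩ := hc
    refine ⟨by rw [← map_mul, ← pow_two, hel c' hc', map_one], fun d hd => ?_⟩
    obtain ⟨d', hd', rfl⟩ := hd
    rw [← map_mul, ← map_mul, hcm c' hc' d' hd']
  rcases Cfsg.Agent.S2202.result heven (fun j hj => ⟨⟨fun c d =>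
      Subtype.ext ((hexp j hj c c.2).2 d d.2)⟩⟩) with hc | hn | ⟨F, iF, iT, B, iB, iBf, hF2, hB, ⟨e⟩⟩
  · exact (hns (solvable_of_cyclic T (hc T))).elim
  · exact (hns (solvable_of_normal T (hn T))).elim
  -- the abelian factor is trivial
  have hB1 : ∀ b : B, b = 1 := by
    intro b
    set j := e.symm (SL2.u 1, 1) with hj
    have hjo : orderOf j = 2 := by
      rw [hj, MulEquiv.orderOf_eq]
      exact two_orderOf (by rw [Prod.mk_mul_mk, sl2_u_mul_self, one_mul]; rfl)
        fun hh => one_ne_zero (SL2.u_eq_one_iff.1 (congrArg Prod.fst hh))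
    have hb := (hexp j hjo (e.symm (1, b)) (Subgroup.mem_centralizer_singleton_iff.2 (by
      rw [hj, ← map_mul, ← map_mul, Prod.mk_mul_mk, Prod.mk_mul_mk, one_mul, mul_one, one_mul,
        mul_one]))).1
    rw [← map_mul, MulEquiv.map_eq_one_iff, Prod.mk_mul_mk, one_mul, Prod.mk_eq_one] at hb
    exact orderOf_eq_one_iff.1 (Nat.eq_one_of_dvd_coprimes (Nat.coprime_two_left.2 hB)
      (orderOf_dvd_of_pow_eq_one (by rw [pow_two, hb.2])) (orderOf_dvd_natCard b))
  have hF : Fintype.card F ≠ 2 := fun hF => hns (solvable_of_two hF hB e)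
  haveI : Unique B := ⟨⟨1⟩, hB1⟩
  let e' : G ≃* Matrix.SpecialLinearGroup (Fin 2) F := e.trans MulEquiv.prodUnique
  exact ⟨⊥, inferInstance, Or.inl (by rw [Subgroup.card_bot]; exact odd_one), F, iF, iT,
    three_lt_card hF,
    Or.inl ⟨(QuotientGroup.quotientBot.trans e').trans (CAGroups.mulEquivPslOfSl2 F)⟩⟩

/-- Two involutions in the abelian part. -/
theorem conclusion_of_rank_two (h : Hyp H A) (hns : ¬ Group.IsSolvable G)
    (hnel : ¬ ∀ x ∈ H, x ^ 2 = 1) {e e' : G} (heA : e ∈ A) (he'A : e' ∈ A) (he : orderOf e = 2)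
    (he' : orderOf e' = 2) (hne : e ≠ e') : Conclusion G := by
  haveI : Fact (Nat.Prime 2) := ⟨Nat.prime_two⟩
  have I := inverted_of_hyp h hnel
  set K := commutator G with hK
  haveI hKn : K.Normal := inferInstance
  have hKA : ∀ x ∈ H, x ∈ K → x ∈ A := fun x hx hxK =>
    commutator_inf_rank_two h hnel heA he'A he he' hne hx hxK
  have hKns : ¬ Group.IsSolvable K := by
    intro hs
    refine hns (solvable_of_ker_le_range K.subtype (Abelianization.of (G := G)) ?_)
    rw [Abelianization.ker_of, Subgroup.range_subtype]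
  obtain ⟨T, hTH, -⟩ := exists_sylow_rank_two h hnel heA he'A he he' hne (one_mem H) (one_mul 1)
  have hconj : ∀ j : K, orderOf j = 2 →
      ∃ g : G, IsCentralInv H (g * j * g⁻¹) ∧ g * (j : G) * g⁻¹ ∈ A := by
    intro j hj
    have hj' : orderOf (j : G) = 2 := (Subgroup.orderOf_coe j).trans hj
    obtain ⟨g, hg⟩ := exists_conj_mem_sylow T hj'
    have hA' := hKA _ (hTH hg) (hKn.conj_mem _ j.2 g)
    exact ⟨g, isCentralInv_of_mem I h hA' ((orderOf_conj_eq g _).trans hj'), hA'⟩
  obtain ⟨S⟩ := (inferInstance : Nonempty (Sylow 2 K))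
  have hKeven : Even (Nat.card K) := by
    by_contra hodd
    exact hKns (Cfsg.Agent.S0205.result (Nat.not_even_iff_odd.1 hodd))
  have habel : ∀ t : K, orderOf t = 2 → IsMulCommutative ↥(Subgroup.centralizer ({t} : Set K)) := by
    intro t ht
    obtain ⟨g, hg, -⟩ := hconj t ht
    refine ⟨⟨fun c d => Subtype.ext (Subtype.ext ?_)⟩⟩
    have hmem : ∀ c : Subgroup.centralizer ({t} : Set K), g * ((c : K) : G) * g⁻¹ ∈ A := by
      intro c
      refine hKA _ (h.mem_of_commute hg ?_) (hKn.conj_mem _ (c : K).2 g)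
      have hc := congrArg (Subtype.val : K → G) (Subgroup.mem_centralizer_singleton_iff.1 c.2)
      rw [Subgroup.coe_mul, Subgroup.coe_mul] at hc
      calc g * ((c : K) : G) * g⁻¹ * (g * t * g⁻¹) = g * (((c : K) : G) * t) * g⁻¹ := by group
        _ = g * t * g⁻¹ * (g * ((c : K) : G) * g⁻¹) := by rw [hc]; group
    have := I.comm _ (hmem c) _ (hmem d)
    rw [show g * ((c : K) : G) * g⁻¹ * (g * ((d : K) : G) * g⁻¹) =
        g * (((c : K) : G) * ((d : K) : G)) * g⁻¹ by group,
      show g * ((d : K) : G) * g⁻¹ * (g * ((c : K) : G) * g⁻¹) =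
        g * (((d : K) : G) * ((c : K) : G)) * g⁻¹ by group] at this
    exact mul_left_cancel (mul_right_cancel this)
  rcases Cfsg.Agent.S2202.result hKeven habel with
    hc | hn | ⟨F, iF, iT, B, iB, iBf, hF2, hB, ⟨φ⟩⟩
  · exact (hKns (solvable_of_cyclic S (hc S))).elim
  · exact (hKns (solvable_of_normal S (hn S))).elim
  have hF : Fintype.card F ≠ 2 := fun hF => hKns (solvable_of_two hF hB φ)
  -- conjugate the embedding so that `u 1` goes to an involution of `A`
  let ι₀ : Matrix.SpecialLinearGroup (Fin 2) F →* K := φ.symm.toMonoidHom.comp (MonoidHom.inl _ B)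
  have hι₀ : Function.Injective ι₀ :=
    φ.symm.injective.comp fun a b hab => congrArg Prod.fst hab
  have hu1 : orderOf (ι₀ (SL2.u 1)) = 2 := by
    rw [orderOf_injective _ hι₀]
    exact two_orderOf (sl2_u_mul_self 1) fun hh => one_ne_zero (SL2.u_eq_one_iff.1 hh)
  obtain ⟨g, hg, hgA⟩ := hconj _ hu1
  let ι : Matrix.SpecialLinearGroup (Fin 2) F →* G :=
    (MulAut.conj g).toMonoidHom.comp (K.subtype.comp ι₀)
  have hι : Function.Injective ι :=
    (MulAut.conj g).injective.comp (K.subtype_injective.comp hι₀)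
  have hιK : ∀ s, ι s ∈ K := fun s => hKn.conj_mem _ (ι₀ s).2 g
  have hj : IsCentralInv H (ι (SL2.u 1)) := hg
  -- every involution of `K` is in the image
  have hinvol : ∀ j ∈ K, j * j = 1 → ∃ s, ι s = j := by
    intro j hjK hjj
    have hk : g⁻¹ * j * g ∈ K := by simpa using hKn.conj_mem j hjK g⁻¹
    have h2 : φ ⟨_, hk⟩ * φ ⟨_, hk⟩ = 1 := by
      rw [← map_mul, ← map_one φ]
      congr 1
      refine Subtype.ext ?_
      show g⁻¹ * j * g * (g⁻¹ * j * g) = 1
      calc g⁻¹ * j * g * (g⁻¹ * j * g) = g⁻¹ * (j * j) * g := by group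
        _ = 1 := by rw [hjj]; group
    refine ⟨(φ ⟨_, hk⟩).1, ?_⟩
    have hb : (φ ⟨_, hk⟩).2 = 1 := orderOf_eq_one_iff.1 (Nat.eq_one_of_dvd_coprimes
      (Nat.coprime_two_left.2 hB)
      (orderOf_dvd_of_pow_eq_one (by rw [pow_two]; exact congrArg Prod.snd h2))
      (orderOf_dvd_natCard _))
    have h3 : ι₀ (φ ⟨_, hk⟩).1 = ⟨_, hk⟩ := by
      show φ.symm ((φ ⟨_, hk⟩).1, 1) = _
      rw [← hb, Prod.mk.eta, MulEquiv.symm_apply_apply]
    show g * ((ι₀ _ : K) : G) * g⁻¹ = j
    rw [h3]; group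
  set L := ι.range with hL
  -- `L` is normal
  haveI hLn : L.Normal := by
    refine ⟨fun y hy n => ?_⟩
    obtain ⟨s, rfl⟩ := hy
    have hs : s ∈ L.comap ((MulAut.conj n).toMonoidHom.comp ι) := by
      have : (⊤ : Subgroup (Matrix.SpecialLinearGroup (Fin 2) F)) ≤
          L.comap ((MulAut.conj n).toMonoidHom.comp ι) := by
        rw [← SL2.U_sup_zpowers_eq_top (sl2_w_notMem_B (F := F))]
        have hgen : ∀ i, i * i = 1 → i ∈ L.comap ((MulAut.conj n).toMonoidHom.comp ι) := by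
          intro i hi
          obtain ⟨s', hs'⟩ := hinvol (n * ι i * n⁻¹) (hKn.conj_mem _ (hιK i) n)
            (by rw [show n * ι i * n⁻¹ * (n * ι i * n⁻¹) = n * (ι i * ι i) * n⁻¹ by group,
              ← map_mul, hi, map_one]; group)
          exact ⟨s', hs'⟩
        refine sup_le (fun x hx => ?_) (Subgroup.zpowers_le.2 (hgen _ sl2_w_mul_self))
        obtain ⟨t, rfl⟩ := SL2.mem_U.1 hx
        exact hgen _ (sl2_u_mul_self t)
      exact this (Subgroup.mem_top s)
    exact hs
  -- `H` centralises the image of the unipotent group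
  have hUH : ∀ t, ∀ a ∈ H, a * ι (SL2.u t) = ι (SL2.u t) * a := by
    intro t a ha
    have h1 : ι (SL2.u t) ∈ H := h.mem_of_commute hj (by
      rw [← map_mul, ← map_mul, ← SL2.u_add, ← SL2.u_add, add_comm])
    have h2 := hKA _ h1 (hιK _)
    rcases eq_or_ne t 0 with rfl | ht
    · simp
    · exact (isCentralInv_of_mem I h h2 (two_orderOf (by rw [← map_mul, sl2_u_mul_self, map_one])
        fun hh => ht (SL2.u_eq_one_iff.1 (hι (hh.trans (map_one ι).symm))))).2.2 a ha
  set N := Subgroup.centralizer (L : Set G) with hN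
  haveI hNn : N.Normal := inferInstance
  have hLN : ∀ n : G, ∃ s, (ι s)⁻¹ * n ∈ N := by
    intro n
    -- first into `H`
    obtain ⟨s₁, hs₁⟩ := hinvol (n * ι (SL2.u 1) * n⁻¹) (hKn.conj_mem _ (hιK _) n)
      (by rw [show n * ι (SL2.u 1) * n⁻¹ * (n * ι (SL2.u 1) * n⁻¹) =
          n * (ι (SL2.u 1) * ι (SL2.u 1)) * n⁻¹ by group, ← map_mul, sl2_u_mul_self, map_one]; group)
    have ho : orderOf s₁ = 2 := by
      rw [← orderOf_injective ι hι, hs₁, orderOf_conj_eq]; exact hj.2.1
    obtain ⟨c, hc⟩ := isConj_iff.1 (sl2_isConj_u_one ho)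
    set a := ι c * n with ha
    have haH : a ∈ H := h.mem_of_commute hj (by
      rw [← mul_inv_eq_iff_eq_mul, ha, mul_inv_rev,
        show ι c * n * ι (SL2.u 1) * (n⁻¹ * (ι c)⁻¹) = ι c * (n * ι (SL2.u 1) * n⁻¹) * (ι c)⁻¹ by group,
        ← hs₁, ← map_inv, ← map_mul, ← map_mul, hc])
    choose α hα using fun s => (hLn.conj_mem (ι s) ⟨s, rfl⟩ a : a * ι s * a⁻¹ ∈ L)
    let αh : Matrix.SpecialLinearGroup (Fin 2) F →* Matrix.SpecialLinearGroup (Fin 2) F :=
      MonoidHom.mk' α fun x y => hι (by rw [map_mul, hα, hα, hα, map_mul]; group)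
    obtain ⟨q, hq⟩ := sl2_eq_conj_u αh
      (fun x y hxy => by
        have e1 : a * ι x * a⁻¹ = a * ι y * a⁻¹ := by
          rw [← hα x, ← hα y]; exact congrArg ι hxy
        exact hι (mul_left_cancel (mul_right_cancel e1)))
      (fun t => hι (by
        show ι (α _) = _
        rw [hα, hUH t a haH, mul_inv_cancel_right]))
    refine ⟨c⁻¹ * SL2.u q, ?_⟩
    rw [map_mul, mul_inv_rev, map_inv, inv_inv, mul_assoc, ← ha, hN, Subgroup.mem_centralizer_iff]
    rintro _ ⟨s, rfl⟩
    have e1 := hα s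
    rw [show α s = SL2.u q * s * (SL2.u q)⁻¹ from hq s, map_mul, map_mul, map_inv] at e1
    calc ι s * ((ι (SL2.u q))⁻¹ * a)
        = (ι (SL2.u q))⁻¹ * (ι (SL2.u q) * ι s * (ι (SL2.u q))⁻¹) * a := by group
      _ = (ι (SL2.u q))⁻¹ * (a * ι s * a⁻¹) * a := by rw [e1]
      _ = (ι (SL2.u q))⁻¹ * a * ι s := by group
  -- `C_G(L)` lies in `H` and meets `A` in odd order
  have hNH : ∀ y ∈ N, y ∈ H := fun y hy =>
    h.mem_of_commute hj (Subgroup.mem_centralizer_iff.1 hy _ ⟨_, rfl⟩).symm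
  have hNA : ∀ f ∈ N, f ∈ A → orderOf f ≠ 2 := by
    intro f hfN hfA hf
    have hfc := isCentralInv_of_mem I h hfA hf
    have hLA : ∀ s, ι s ∈ A := fun s =>
      hKA _ (h.mem_of_commute hfc (Subgroup.mem_centralizer_iff.1 hfN _ ⟨s, rfl⟩)) (hιK s)
    have e1 : SL2.u (1 : F) * SL2.w = SL2.w * SL2.u 1 :=
      hι (by rw [map_mul, map_mul, I.comm _ (hLA _) _ (hLA _)])
    have := congrArg (fun x : Matrix.SpecialLinearGroup (Fin 2) F => x 0 0) e1
    simp [Matrix.mul_apply, Fin.sum_univ_two] at this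
  have hNodd : Odd (Nat.card N) ∨ ∃ m, Odd m ∧ Nat.card N = 2 * m := by
    obtain ⟨P⟩ := (inferInstance : Nonempty (Sylow 2 N))
    have hin : ∀ x : (P : Subgroup N), x ≠ 1 → ((x : N) : G) ∉ A := by
      intro x hx1 hxA
      obtain ⟨k, hk⟩ := P.isPGroup' x
      have hd : 2 ∣ orderOf x := by
        obtain ⟨i, -, hi⟩ := (Nat.dvd_prime_pow Nat.prime_two).1 (orderOf_dvd_of_pow_eq_one hk)
        rw [hi]
        refine dvd_pow_self 2 fun hi0 => hx1 ?_
        rw [hi0, pow_zero] at hi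
        exact orderOf_eq_one_iff.1 hi
      refine hNA _ ((x ^ (orderOf x / 2) : (P : Subgroup N)) : N).2 ?_ ?_
      · simpa using pow_mem hxA _
      · rw [Subgroup.orderOf_coe, Subgroup.orderOf_coe]
        exact orderOf_pow_orderOf_div (orderOf_pos x).ne' hd
    have hcard : Nat.card (P : Subgroup N) ≤ 2 := by
      by_contra h3
      push Not at h3
      haveI := Fintype.ofFinite (P : Subgroup N)
      rw [Nat.card_eq_fintype_card] at h3
      obtain ⟨a, b, c, hab, hac, hbc⟩ := Fintype.two_lt_card_iff.1 h3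
      have key : ∀ x y : (P : Subgroup N), x ≠ 1 → y ≠ 1 → x = y := by
        intro x y hx hy
        have hxy : x * y = 1 := by
          by_contra hxy
          refine hin _ hxy ?_
          simpa using I.prod _ (hNH _ (x : N).2) (hin x hx) _ (hNH _ (y : N).2) (hin y hy)
        have hx2 : x * x = 1 := Subtype.ext (Subtype.ext (by
          simpa [pow_two] using h.sq _ (hNH _ (x : N).2) (hin x hx)))
        exact mul_left_cancel (hx2.trans hxy.symm)
      by_cases ha1 : a = 1
      · exact hbc (key b c (fun e => hab (ha1.trans e.symm)) (fun e => hac (ha1.trans e.symm)))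
      · by_cases hb1 : b = 1
        · exact hac (key a c ha1 (fun e => hbc (hb1.trans e.symm)))
        · exact hab (key a b ha1 hb1)
    have hidx : Odd (P : Subgroup N).index := by
      rw [← Nat.not_even_iff_odd, even_iff_two_dvd]; exact P.not_dvd_index
    have hmul := (P : Subgroup N).card_mul_index
    rcases Nat.lt_or_ge (Nat.card (P : Subgroup N)) 2 with h1 | h1
    · have h01 : Nat.card (P : Subgroup N) = 1 := by
        have := Nat.card_pos (α := (P : Subgroup N)); omega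
      rw [h01, one_mul] at hmul
      exact Or.inl (hmul ▸ hidx)
    · rw [le_antisymm hcard h1] at hmul
      exact Or.inr ⟨_, hidx, hmul.symm⟩
  -- the quotient
  let ψ : Matrix.SpecialLinearGroup (Fin 2) F →* G ⧸ N := (QuotientGroup.mk' N).comp ι
  have hψ : Function.Bijective ψ := by
    refine ⟨(injective_iff_map_eq_one ψ).2 fun s hs => ?_, fun y => ?_⟩
    · have hsN : ι s ∈ N := (QuotientGroup.eq_one_iff _).1 hs
      have hz : s ∈ Subgroup.center (Matrix.SpecialLinearGroup (Fin 2) F) :=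
        Subgroup.mem_center_iff.2 fun r => hι (by
          rw [map_mul, map_mul]; exact Subgroup.mem_centralizer_iff.1 hsN _ ⟨r, rfl⟩)
      rwa [SL2.center_eq_bot, Subgroup.mem_bot] at hz
    · obtain ⟨n, rfl⟩ := QuotientGroup.mk'_surjective N y
      obtain ⟨s, hs⟩ := hLN n
      exact ⟨s, QuotientGroup.eq.2 hs⟩
  exact ⟨N, hNn, hNodd, F, iF, iT, three_lt_card hF,
    Or.inl ⟨(MulEquiv.ofBijective ψ hψ).symm.trans (CAGroups.mulEquivPslOfSl2 F)⟩⟩

end CfsgLib.DGroup48
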