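import Mathlib
import Cfsg.Agent.Eq.Def_Transfer
import Cfsg.Agent.DGroup48.Local
import Cfsg.Agent.LocalP.ThompsonJ
import Cfsg.Agent.OddLocal.CenterThompson
import Cfsg.Agent.S0118
import Cfsg.Agent.S0205
import Cfsg.Agent.S1254

/-!
A largest subgroup of prime power order invariant under a four-group and meeting two of the three
involution centralisers, and the abelian characteristic subgroup obtained from it.
-/

set_option autoImplicit false

namespace CfsgLib.DGroup48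

variable {G : Type*} [Group G] [Finite G] {v u z : G} {r : ℕ}

/-- An `r`-subgroup invariant under a frame with two non-trivial pieces. -/
def Good (r : ℕ) (v u : G) (P : Subgroup G) : Prop :=
  ∃ F : Frame v u, IsPGroup r P ∧ F.four ≤ Subgroup.normalizer (P : Set G) ∧ P ⊓ U v ≠ ⊥ ∧ P ⊓ U u ≠ ⊥

theorem exists_mem_ne_one {K : Subgroup G} (h : K ≠ ⊥) : ∃ x ∈ K, x ≠ 1 := by
  by_contra hn
  push Not at hn
  exact h ((Subgroup.eq_bot_iff_forall _).2 hn)

theorem ne_bot_of_mem {K : Subgroup G} {x : G} (h : x ∈ K) (h1 : x ≠ 1) : K ≠ ⊥ := fun e =>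
  h1 (Subgroup.mem_bot.1 (e ▸ h))

theorem odd_of_isPGroup [Fact r.Prime] (hr2 : r ≠ 2) {P : Subgroup G} (hP : IsPGroup r P) :
    Odd (Nat.card P) := by
  obtain ⟨n, hn⟩ := hP.exists_card_eq
  exact hn ▸ ((Fact.out : r.Prime).odd_of_ne_two hr2).pow

theorem zpowers_isPGroup {x : G} {k : ℕ} (h : x ^ r ^ k = 1) : IsPGroup r (Subgroup.zpowers x) := by
  rintro ⟨_, i, rfl⟩
  refine ⟨k, Subtype.ext ?_⟩
  show (x ^ i) ^ (r ^ k) = 1
  rw [← zpow_natCast, ← zpow_mul, mul_comm, zpow_mul, zpow_natCast, h, one_zpow]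

theorem mem_W_of_le {Y : Subgroup G} {a : G} (hY : Odd (orderOf a)) {v : G} (c : Ctx G)
    (hv : orderOf v = 2) (hYU : Y ≤ U v) (ha : Commute v a) : a ∈ W Y :=
  mem_W_of (fun _ hy => c.comm_U hv ((c.mem_U hv).2 ⟨ha, hY⟩) (hYU hy)) hY

namespace Ctx

variable (c : Ctx G)

include c

/-- A subgroup of odd order invariant under a frame has a non-trivial piece. -/
theorem exists_piece (F : Frame v u) {K : Subgroup G} (hK : Odd (Nat.card K))
    (hn : F.four ≤ Subgroup.normalizer (K : Set G)) (hne : K ≠ ⊥) :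
    K ⊓ U v ≠ ⊥ ∨ K ⊓ U u ≠ ⊥ ∨ K ⊓ U (v * u) ≠ ⊥ := by
  by_contra h
  push Not at h
  obtain ⟨h1, h2, h3⟩ := h
  refine hne (le_bot_iff.1 (gen_le F hK (hn F.v_mem) (hn F.u_mem) ?_ ?_ ?_))
  · exact fun w hw hc => h1 ▸ ⟨hw, (c.mem_U F.ov).2 ⟨hc, odd_orderOf_of_mem hK hw⟩⟩
  · exact fun w hw hc => h2 ▸ ⟨hw, (c.mem_U F.ou).2 ⟨hc, odd_orderOf_of_mem hK hw⟩⟩
  · exact fun w hw hc => h3 ▸ ⟨hw, (c.mem_U F.orderOf_mul).2 ⟨hc, odd_orderOf_of_mem hK hw⟩⟩

/-- A subgroup with two trivial pieces lies in the third centraliser. -/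
theorem le_U (F : Frame v u) {K : Subgroup G} (hK : Odd (Nat.card K))
    (hn : F.four ≤ Subgroup.normalizer (K : Set G)) (h2 : K ⊓ U u = ⊥) (h3 : K ⊓ U (v * u) = ⊥) :
    K ≤ U v := by
  refine gen_le F hK (hn F.v_mem) (hn F.u_mem) ?_ ?_ ?_
  · exact fun w hw hc => (c.mem_U F.ov).2 ⟨hc, odd_orderOf_of_mem hK hw⟩
  · intro w hw hc
    have : w ∈ K ⊓ U u := ⟨hw, (c.mem_U F.ou).2 ⟨hc, odd_orderOf_of_mem hK hw⟩⟩
    rw [h2, Subgroup.mem_bot] at this
    exact this ▸ one_mem _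
  · intro w hw hc
    have : w ∈ K ⊓ U (v * u) := ⟨hw, (c.mem_U F.orderOf_mul).2 ⟨hc, odd_orderOf_of_mem hK hw⟩⟩
    rw [h3, Subgroup.mem_bot] at this
    exact this ▸ one_mem _

/-- A good subgroup of maximal order contains every invariant `r`-subgroup of an invariant group of
odd order around it. -/
theorem le_of_max [Fact r.Prime] (F : Frame v u) {W0 P : Subgroup G} (hW : Odd (Nat.card W0))
    (hWn : F.four ≤ Subgroup.normalizer (W0 : Set G)) (hPW : P ≤ W0) (hG : Good r v u P)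
    (hmax : ∀ (v' u' : G) (Q : Subgroup G), Good r v' u' Q → Nat.card Q ≤ Nat.card P) {R : Subgroup G} (hR : R ≤ W0)
    (hRp : IsPGroup r R) (hRn : F.four ≤ Subgroup.normalizer (R : Set G)) : R ≤ P := by
  obtain ⟨_, hPp, hPn, hP1, hP2⟩ := hG
  obtain ⟨Q, hQ, hQu⟩ := exists_inv_sylow F hW (hWn F.v_mem) (hWn F.u_mem) (c.fpf F hW) r
  have hPQ := hQu P hPW hPp hPn
  have hQG : Good r v u ((Q : Subgroup W0).map W0.subtype) :=
    ⟨F, Q.2.map _, hQ, fun e => hP1 (le_bot_iff.1 (e ▸ inf_le_inf_right _ hPQ)),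
      fun e => hP2 (le_bot_iff.1 (e ▸ inf_le_inf_right _ hPQ))⟩
  rw [Subgroup.eq_of_le_of_card_ge hPQ (hmax _ _ _ hQG)]
  exact hQu R hR hRp hRn

end Ctx

/-- The maximal configuration. -/
structure MaxConf (c : Ctx G) (r : ℕ) (z : G) (S : Sylow 2 G) (P : Subgroup G) : Prop where
  hr2 : r ≠ 2
  hz : orderOf z = 2
  hSz : ∀ s ∈ (S : Subgroup G), Commute z s
  pg : IsPGroup r P
  center_piece : P ⊓ Subgroup.centralizer (P : Set G) ⊓ U z ≠ ⊥
  frame : ∃ x ∈ (S : Subgroup G), Frame z x ∧ P ⊓ U x ≠ ⊥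
  le_normalizer : (S : Subgroup G) ≤ Subgroup.normalizer (P : Set G)
  max : ∀ (v u : G) (Q : Subgroup G), Good r v u Q → Nat.card Q ≤ Nat.card P

theorem exists_top (c : Ctx G) {v : G} (hv : orderOf v = 2) {Y : Subgroup G} (hY : Y ≤ U v) (hne : Y ≠ ⊥)
    (hbad : ¬ ∀ w ∈ W Y, Commute v w) :
    ∃ (r : ℕ) (_ : Fact r.Prime) (z : G) (S : Sylow 2 G) (P : Subgroup G), MaxConf c r z S P := by
  classical
  obtain ⟨u, F⟩ := c.exists_frame hv
  have hWo := c.odd_W hv hY hne
  have hWn := c.four_le_normalizer_W F hY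
  -- an element of `W` centralising another member of a frame at `v`
  obtain ⟨x, Fx, w, hwW, hxw, hw1, hWx⟩ : ∃ x, ∃ Fx : Frame v x, ∃ w ∈ W Y, Commute x w ∧ w ≠ 1 ∧
      Fx.four ≤ Subgroup.normalizer (W Y : Set G) := by
    by_contra h
    apply hbad
    push Not at h
    have hle : W Y ≤ Subgroup.centralizer {v} := by
      refine gen_le F hWo (hWn F.v_mem) (hWn F.u_mem)
        (fun w _ hc => Subgroup.mem_centralizer_singleton_iff.2 hc.eq.symm) (fun w hw hc => ?_) fun w hw hc => ?_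
      · by_contra hn
        exact h u F w hw hc (fun e => hn (e ▸ one_mem _)) hWn
      · by_contra hn
        exact h (v * u) F.third w hw hc (fun e => hn (e ▸ one_mem _)) (F.four_third.symm ▸ hWn)
    exact fun w hw => (Subgroup.mem_centralizer_singleton_iff.1 (hle hw)).symm
  set r := (orderOf w).minFac with hr
  have hw2 : orderOf w ≠ 1 := fun e => hw1 (orderOf_eq_one_iff.1 e)
  haveI : Fact r.Prime := ⟨Nat.minFac_prime hw2⟩
  have hwo := odd_orderOf_of_mem hWo hwW
  have hr2 : r ≠ 2 := fun e => by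
    have h2 := Nat.minFac_dvd (orderOf w)
    rw [← hr, e] at h2
    have := hwo.of_dvd_nat h2
    exact absurd this (by decide)
  set a := w ^ (orderOf w / r) with ha
  have hao : orderOf a = r := by
    rw [ha]
    exact orderOf_pow_orderOf_div (orderOf_pos w).ne' (Nat.minFac_dvd _)
  have hodd : Odd (orderOf a) := hao ▸ (Fact.out : r.Prime).odd_of_ne_two hr2
  have haW : a ∈ W Y := pow_mem hwW _
  have haU : a ∈ U x := (c.mem_U Fx.ou).2 ⟨hxw.pow_right _, hodd⟩
  obtain ⟨g, hg⟩ := c.conj x v Fx.ou hv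
  set b := g * a * g⁻¹ with hb
  have hbU : b ∈ U v := hg ▸ conj_mem_U g haU
  have hbo : orderOf b = r := by rw [hb, ← hao]; exact (MulAut.conj g).orderOf_eq a
  have hbW : b ∈ W Y := mem_W_of_le (odd_orderOf_conj g a hodd) c hv hY (c.commute_U hv hbU)
  obtain ⟨Q, hQ, hQu⟩ := exists_inv_sylow Fx hWo (hWx Fx.v_mem) (hWx Fx.u_mem) (c.fpf Fx hWo) r
  have hzp : ∀ d : G, orderOf d = r → IsPGroup r (Subgroup.zpowers d) := fun d hd =>
    zpowers_isPGroup (k := 1) (by rw [pow_one, ← hd, pow_orderOf_eq_one])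
  have haQ : a ∈ (Q : Subgroup (W Y)).map (W Y).subtype :=
    hQu _ (Subgroup.zpowers_le.2 haW) (hzp a hao)
      (by
        rw [← Fx.four_symm]
        exact c.four_le_normalizer Fx.symm fun _ hg => c.normalizes Fx.ou (Subgroup.zpowers_le.2 haU) hg)
      (Subgroup.mem_zpowers a)
  have hbQ : b ∈ (Q : Subgroup (W Y)).map (W Y).subtype :=
    hQu _ (Subgroup.zpowers_le.2 hbW) (hzp b hbo)
      (c.four_le_normalizer Fx fun _ hg => c.normalizes hv (Subgroup.zpowers_le.2 hbU) hg)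
      (Subgroup.mem_zpowers b)
  have hne1 : ∀ d : G, orderOf d = r → d ≠ 1 := fun d hd e =>
    (Fact.out : r.Prime).ne_one (by rw [← hd, e, orderOf_one])
  have hgood : Good r v x ((Q : Subgroup (W Y)).map (W Y).subtype) :=
    ⟨Fx, Q.2.map _, hQ, ne_bot_of_mem ⟨hbQ, hbU⟩ (hne1 b hbo), ne_bot_of_mem ⟨haQ, haU⟩ (hne1 a hao)⟩
  -- a good subgroup of maximal order
  obtain ⟨P, ⟨v1, u1, hP⟩, hmax⟩ := Set.exists_max_image {P : Subgroup G | ∃ v u, Good r v u P}
    (fun P => Nat.card P) (Set.toFinite _) ⟨_, v, x, hgood⟩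
  obtain ⟨F1, hPp, hPn, hP1, hP2⟩ := hP
  have hmax' : ∀ v u Q, Good r v u Q → Nat.card Q ≤ Nat.card P := fun v u Q h => hmax Q ⟨v, u, h⟩
  have hPo := odd_of_isPGroup hr2 hPp
  have hPne : P ≠ ⊥ := fun e => hP1 (by rw [e, bot_inf_eq])
  set Z := P ⊓ Subgroup.centralizer (P : Set G) with hZ
  have hZne : Z ≠ ⊥ := by
    haveI : Nontrivial P := (Subgroup.nontrivial_iff_ne_bot _).2 hPne
    haveI := hPp.center_nontrivial
    obtain ⟨⟨d, hd⟩, hd1⟩ := exists_ne (1 : Subgroup.center P)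
    refine ne_bot_of_mem (x := (d : G)) ⟨d.2, Subgroup.mem_centralizer_iff.2 fun y hy => ?_⟩
      fun e => hd1 (Subtype.ext (Subtype.ext e))
    exact congrArg Subtype.val (Subgroup.mem_center_iff.1 hd ⟨y, hy⟩)
  have hZn : F1.four ≤ Subgroup.normalizer (Z : Set G) := fun f hf => by
    have := hPn hf
    refine mem_normalizer_of_conj_mem fun d hd => ⟨(Subgroup.mem_normalizer_iff.1 this d).1 hd.1, ?_⟩
    refine Subgroup.mem_centralizer_iff.2 fun y hy => ?_
    have h2 := (Subgroup.mem_normalizer_iff.1 (inv_mem this) y).1 hy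
    have h3 : f⁻¹ * y * f⁻¹⁻¹ * d = d * (f⁻¹ * y * f⁻¹⁻¹) := Subgroup.mem_centralizer_iff.1 hd.2 _ h2
    calc y * (f * d * f⁻¹) = f * ((f⁻¹ * y * f⁻¹⁻¹) * d) * f⁻¹ := by group
      _ = f * (d * (f⁻¹ * y * f⁻¹⁻¹)) * f⁻¹ := by rw [h3]
      _ = f * d * f⁻¹ * y := by group
  obtain ⟨z, x', F2, h4, hz1, hx1⟩ : ∃ z x', ∃ F2 : Frame z x', F2.four = F1.four ∧ Z ⊓ U z ≠ ⊥ ∧
      P ⊓ U x' ≠ ⊥ := by
    rcases c.exists_piece F1 (odd_of_le hPo inf_le_left) hZn hZne with h | h | h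
    · exact ⟨v1, u1, F1, rfl, h, hP2⟩
    · exact ⟨u1, v1, F1.symm, F1.four_symm, h, hP1⟩
    · exact ⟨v1 * u1, u1, F1.swap, F1.four_swap, h, hP2⟩
  obtain ⟨S, hSz, hS⟩ := c.exists_central_sylow F2
  refine ⟨r, inferInstance, z, S, P, hr2, F2.ov, hSz, hPp, hz1, ⟨x', hS F2.u_mem, F2, hx1⟩, ?_, hmax'⟩
  -- `S` normalises `P`
  have hY1 : Z ⊓ U z ≤ U z := inf_le_right
  have hW1 := c.odd_W F2.ov hY1 hz1
  have hPW : P ≤ W (Z ⊓ U z) := le_W hPo fun p hp y hy => Subgroup.mem_centralizer_iff.1 hy.1.2 p hp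
  have hSW : (S : Subgroup G) ≤ Subgroup.normalizer (W (Z ⊓ U z) : Set G) := fun s hs =>
    normalizer_le_normalizer_W _ (c.normalizes F2.ov hY1 (hSz s hs))
  haveI : Fact (Nat.Prime 2) := ⟨Nat.prime_two⟩
  obtain ⟨P', hP'⟩ := Coprime.exists_invariant_sylow (p := r) hSW (coprime_two_group S.2 hW1)
    (Or.inl (Coprime.isSolvable_of_isPGroup S.2))
  have hPgood : Good r z x' P :=
    ⟨F2, hPp, h4 ▸ hPn, fun e => hz1 (le_bot_iff.1 (e ▸ inf_le_inf_right _ inf_le_left)), hx1⟩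
  have hle := c.le_of_max F2 hW1 (hS.trans hSW) hPW hPgood hmax' (Subgroup.map_subtype_le _)
    (P'.2.map _) (hS.trans hP')
  have hPP' : P ≤ (P' : Subgroup (W (Z ⊓ U z))).map (W (Z ⊓ U z)).subtype := by
    intro p hp
    have h1 := P'.3 (hPp.comap_of_injective (W (Z ⊓ U z)).subtype (Subgroup.subtype_injective _))
      (fun q hq => hle ⟨q, hq, rfl⟩)
    exact ⟨⟨p, hPW hp⟩, h1 ▸ hp, rfl⟩
  rw [le_antisymm hPP' hle]
  exact hP'

namespace MaxConf

variable {c : Ctx G} {S : Sylow 2 G} {P : Subgroup G}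

theorem z_mem (T : MaxConf c r z S P) : z ∈ (S : Subgroup G) :=
  c.two_mem T.hz T.hSz (c.mem z T.hz) (k := 1) (by rw [pow_one, pow_two, mul_self_of_orderOf T.hz])

variable [Fact r.Prime]

theorem odd_P (T : MaxConf c r z S P) : Odd (Nat.card P) := odd_of_isPGroup T.hr2 T.pg

theorem four_le (T : MaxConf c r z S P) {k : G} (F : Frame z k) (hk : k ∈ (S : Subgroup G)) :
    F.four ≤ Subgroup.normalizer (P : Set G) :=
  (F.four_le T.z_mem hk).trans T.le_normalizer

theorem piece_z (T : MaxConf c r z S P) : P ⊓ U z ≠ ⊥ := fun e =>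
  T.center_piece (le_bot_iff.1 (e ▸ inf_le_inf_right _ inf_le_left))

/-- `P` is not centralised by `z`. -/
theorem not_le_U (T : MaxConf c r z S P) : ¬ P ≤ U z := by
  obtain ⟨x, -, F, hx⟩ := T.frame
  obtain ⟨p, hp, hp1⟩ := exists_mem_ne_one hx
  exact fun h => hp1 (c.U_inter F (h hp.1) hp.2)

theorem piece_other (T : MaxConf c r z S P) {k : G} (F : Frame z k) (hk : k ∈ (S : Subgroup G)) :
    ∃ k' ∈ (S : Subgroup G), ∃ F' : Frame z k', F'.four = F.four ∧ Good r z k' P := by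
  by_cases h : P ⊓ U k ≠ ⊥
  · exact ⟨k, hk, F, rfl, F, T.pg, T.four_le F hk, T.piece_z, h⟩
  · refine ⟨z * k, mul_mem T.z_mem hk, F.third, F.four_third, F.third, T.pg,
      T.four_le F.third (mul_mem T.z_mem hk), T.piece_z, fun h' => ?_⟩
    exact T.not_le_U (c.le_U F T.odd_P (T.four_le F hk) (not_not.1 h) h')

/-- The large odd group around `P`. -/
abbrev W1 (z : G) (P : Subgroup G) : Subgroup G :=
  W (P ⊓ Subgroup.centralizer (P : Set G) ⊓ U z)

theorem odd_W1 (T : MaxConf c r z S P) : Odd (Nat.card (W1 z P)) := c.odd_W T.hz inf_le_right T.center_piece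

theorem le_W1 (T : MaxConf c r z S P) : P ≤ W1 z P :=
  le_W T.odd_P fun p hp _ hy => Subgroup.mem_centralizer_iff.1 hy.1.2 p hp

theorem normalizes_W1 (T : MaxConf c r z S P) {g : G} (hg : Commute z g) :
    g ∈ Subgroup.normalizer (W1 z P : Set G) :=
  normalizer_le_normalizer_W _ (c.normalizes T.hz inf_le_right hg)

/-- Invariant `r`-subgroups of `W1` lie in `P`. -/
theorem inv_le (T : MaxConf c r z S P) {k : G} (F : Frame z k) (hk : k ∈ (S : Subgroup G)) {R : Subgroup G}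
    (hR : R ≤ W1 z P) (hRp : IsPGroup r R) (hRn : F.four ≤ Subgroup.normalizer (R : Set G)) : R ≤ P := by
  obtain ⟨k', hk', F', e, hG⟩ := T.piece_other F hk
  exact c.le_of_max F' T.odd_W1 (c.four_le_normalizer_W F' inf_le_right) T.le_W1 hG T.max hR hRp (e ▸ hRn)

theorem mem_of_pow (T : MaxConf c r z S P) {a : G} (ha : a ∈ U z) {k : ℕ} (hk : a ^ r ^ k = 1) : a ∈ P := by
  obtain ⟨x, hx, F, -⟩ := T.frame
  refine T.inv_le F hx (R := Subgroup.zpowers a) (Subgroup.zpowers_le.2 ?_) (zpowers_isPGroup hk) ?_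
    (Subgroup.mem_zpowers a)
  · exact mem_W_of_le ((c.mem_U T.hz).1 ha).2 c T.hz inf_le_right (c.commute_U T.hz ha)
  · exact c.four_le_normalizer F fun _ hg => c.normalizes T.hz (Subgroup.zpowers_le.2 ha) hg

/-- If `P` centralises a non-trivial part of `U k`, the stabiliser of `k` normalises `P`. -/
theorem stab_piece (T : MaxConf c r z S P) {k : G} (F : Frame z k) (hk : k ∈ (S : Subgroup G))
    (hne : P ⊓ Subgroup.centralizer (P : Set G) ⊓ U k ≠ ⊥) {g : G}
    (hg : g ∈ Subgroup.normalizer (F.four : Set G)) (hkg : Commute k g) :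
    g ∈ Subgroup.normalizer (P : Set G) := by
  set R0 := P ⊓ Subgroup.centralizer (P : Set G) ⊓ U k with hR0
  have hR0U : R0 ≤ U k := inf_le_right
  have hW := c.odd_W F.ou hR0U hne
  have hWn : F.four ≤ Subgroup.normalizer (W R0 : Set G) :=
    F.four_symm ▸ c.four_le_normalizer_W F.symm hR0U
  have hPW : P ≤ W R0 := le_W T.odd_P fun p hp _ hy => Subgroup.mem_centralizer_iff.1 hy.1.2 p hp
  have hG : Good r z k P := ⟨F, T.pg, T.four_le F hk, T.piece_z,
    fun e => hne (le_bot_iff.1 (e ▸ inf_le_inf_right _ inf_le_left))⟩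
  refine mem_normalizer_of_conj_mem fun p hp => ?_
  have hgW := normalizer_le_normalizer_W _ (c.normalizes F.ou hR0U hkg)
  refine c.le_of_max F hW hWn hPW hG T.max (R := P.map (MulAut.conj g).toMonoidHom) ?_ (T.pg.map _) ?_
    ⟨p, hp, rfl⟩
  · rintro _ ⟨q, hq, rfl⟩
    exact (Subgroup.mem_normalizer_iff.1 hgW q).1 (hPW hq)
  · intro f hf
    refine mem_normalizer_of_conj_mem ?_
    rintro _ ⟨q, hq, rfl⟩
    have h1 : g⁻¹ * f * g⁻¹⁻¹ ∈ F.four := (Subgroup.mem_normalizer_iff.1 (inv_mem hg) f).1 hf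
    refine ⟨(g⁻¹ * f * g⁻¹⁻¹) * q * (g⁻¹ * f * g⁻¹⁻¹)⁻¹,
      (Subgroup.mem_normalizer_iff.1 (T.four_le F hk h1) q).1 hq, ?_⟩
    simp only [MulEquiv.coe_toMonoidHom, MulAut.conj_apply]
    group

/-- An abelian subgroup, characteristic in `P`, whose normaliser contains the normalisers of all
frames in `S`. -/
theorem exists_abelian (T : MaxConf c r z S P) (S0 : Sylow 2 G) {m : ℕ} (hm : 2 ≤ m)
    (e0 : (S0 : Subgroup G) ≃* DihedralGroup m) :
    ∃ R : Subgroup G, R ≤ P ∧ R ≠ ⊥ ∧ (∀ a ∈ R, ∀ b ∈ R, Commute a b) ∧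
      Subgroup.normalizer (P : Set G) ≤ Subgroup.normalizer (R : Set G) ∧
      ∀ k ∈ (S : Subgroup G), ∀ F : Frame z k, ∀ g ∈ Subgroup.normalizer (F.four : Set G),
        g ∈ Subgroup.normalizer (R : Set G) := by
  classical
  haveI : Fact (Nat.Prime 2) := ⟨Nat.prime_two⟩
  set N := Subgroup.normalizer (P : Set G) with hN
  by_cases hα : ∃ k ∈ (S : Subgroup G), ∃ F : Frame z k,
      ∃ w ∈ Subgroup.normalizer (F.four : Set G), w ∈ N ∧ w * z * w⁻¹ ≠ z
  · -- some element of `N(P)` moves `z`: take the centre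
    obtain ⟨k0, hk0, F0, w, hwn, hwN, hwz⟩ := hα
    set R := P ⊓ Subgroup.centralizer (P : Set G) with hR
    have hNR : N ≤ Subgroup.normalizer (R : Set G) := fun f hf => by
      refine mem_normalizer_of_conj_mem fun d hd => ⟨(Subgroup.mem_normalizer_iff.1 hf d).1 hd.1, ?_⟩
      refine Subgroup.mem_centralizer_iff.2 fun y hy => ?_
      have h2 := (Subgroup.mem_normalizer_iff.1 (inv_mem hf) y).1 hy
      have h3 : f⁻¹ * y * f⁻¹⁻¹ * d = d * (f⁻¹ * y * f⁻¹⁻¹) := Subgroup.mem_centralizer_iff.1 hd.2 _ h2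
      calc y * (f * d * f⁻¹) = f * ((f⁻¹ * y * f⁻¹⁻¹) * d) * f⁻¹ := by group
        _ = f * (d * (f⁻¹ * y * f⁻¹⁻¹)) * f⁻¹ := by rw [h3]
        _ = f * d * f⁻¹ * y := by group
    refine ⟨R, inf_le_left, fun e => T.center_piece (by rw [← hR, e, bot_inf_eq]), fun a ha b hb =>
      (Subgroup.mem_centralizer_iff.1 ha.2 b hb.1).symm, hNR, fun k hk F g hg => hNR ?_⟩
    have hstab : ∀ k ∈ (S : Subgroup G), ∀ F : Frame z k, ∀ g ∈ Subgroup.normalizer (F.four : Set G),
        Commute z g → g ∈ N := fun k hk F g hg hzg => T.le_normalizer (c.stab_mem F T.hSz hk hg hzg)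
    -- `R` is not centralised by `z`
    have hRU : ¬ R ≤ U z := by
      intro hle
      obtain ⟨d, hd, hd1⟩ := exists_mem_ne_one T.center_piece
      have hd2 : w * d * w⁻¹ ∈ R := (Subgroup.mem_normalizer_iff.1 (hNR hwN) d).1 hd.1
      have hd3 : w * d * w⁻¹ ∈ U (w * z * w⁻¹) := conj_mem_U w hd.2
      refine hd1 (conj_eq_one_iff.1 (c.U_inter (v := z) (u := w * z * w⁻¹) ?_ (hle hd2) hd3))
      rcases F0.conj_mem hwn F0.v_mem (ne_one_of_orderOf F0.ov) with q | q | q
      · exact absurd q hwz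
      · rw [q]; exact F0
      · rw [q]; exact F0.third
    obtain ⟨k', hk', F', e', hne⟩ : ∃ k' ∈ (S : Subgroup G), ∃ F' : Frame z k', F'.four = F.four ∧
        R ⊓ U k' ≠ ⊥ := by
      by_cases h : R ⊓ U k ≠ ⊥
      · exact ⟨k, hk, F, rfl, h⟩
      · refine ⟨z * k, mul_mem T.z_mem hk, F.third, F.four_third, fun h' => hRU ?_⟩
        exact c.le_U F (odd_of_le T.odd_P inf_le_left) ((T.four_le F hk).trans hNR) (not_not.1 h) h'
    rw [← e'] at hg
    obtain ⟨t, htn, htN, htz⟩ : ∃ t ∈ Subgroup.normalizer (F'.four : Set G), t ∈ N ∧ t * z * t⁻¹ ≠ z := by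
      obtain ⟨T', hT'k, hT'⟩ := c.exists_central_sylow F'.symm
      rw [F'.four_symm] at hT'
      by_cases hS4 : F'.four = (S : Subgroup G)
      · refine ⟨w, ?_, hwN, hwz⟩
        have : F0.four = F'.four := Subgroup.eq_of_le_of_card_ge (hS4 ▸ F0.four_le T.z_mem hk0)
          (by rw [F'.card_four, F0.card_four])
        rw [← this]; exact hwn
      · have hne' : F'.four ≠ (T' : Subgroup G) := fun e => hS4 (by
          refine Subgroup.eq_of_le_of_card_ge (F'.four_le T.z_mem hk') ?_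
          rw [e, S.card_eq_multiplicity, T'.card_eq_multiplicity])
        obtain ⟨t, htT, htn, ht4⟩ := exists_normalizer_gt T'.2 hT' hne'
        refine ⟨t, htn, T.stab_piece F' hk' hne htn (hT'k t htT), fun htz => ?_⟩
        exact ht4 (c.mem_four F' (mul_inv_eq_iff_eq_mul.1 htz).symm (hT'k t htT))
    exact full_normalizer F' (hstab k' hk' F') htn htN htz g hg
  · -- nothing in `N(P)` moves `z`: `P` is a Sylow subgroup
    have hfix : ∀ k ∈ (S : Subgroup G), ∀ F : Frame z k, ∀ g ∈ Subgroup.normalizer (F.four : Set G),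
        g ∈ N → g ∈ (S : Subgroup G) := fun k hk F g hg hgN => by
      refine c.stab_mem F T.hSz hk hg ?_
      by_contra hne
      exact hα ⟨k, hk, F, g, hg, hgN, fun e => hne (mul_inv_eq_iff_eq_mul.1 e).symm⟩
    have hcompl : Cfsg.HasNormalPComplement 2 N := by
      let S' : Sylow 2 N := S.subtype T.le_normalizer
      have e' : (S' : Subgroup N) ≃* DihedralGroup m :=
        (Subgroup.subgroupOfEquivOfLe T.le_normalizer).trans ((S.equiv S0).trans e0)
      refine (Cfsg.Agent.S1254.result S' m hm e').2 fun V hV hVk => le_antisymm (fun n hn => ?_) ?_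
      · refine Subgroup.mem_sup_right ⟨?_, hn⟩
        set V' := V.map N.subtype with hV'
        have hV'S : V' ≤ (S : Subgroup G) := by rintro _ ⟨q, hq, rfl⟩; exact hV hq
        have hcard : Nat.card V' = 4 := by rw [hV', Subgroup.card_subtype]; exact hVk.card_four
        obtain ⟨k, hk, hk1, hkz⟩ : ∃ k ∈ V', k ≠ 1 ∧ k ≠ z := by
          by_contra h
          push Not at h
          have hle : V' ≤ Subgroup.zpowers z := fun q hq => by
            by_cases hq1 : q = 1
            · exact hq1 ▸ one_mem _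
            · exact h q hq hq1 ▸ Subgroup.mem_zpowers z
          have := Subgroup.card_le_of_le hle
          rw [hcard, Nat.card_zpowers, T.hz] at this
          omega
        have hsq : ∀ q ∈ V', q * q = 1 := by
          rintro _ ⟨q, hq, rfl⟩
          have h1 : (⟨q, hq⟩ : V) * ⟨q, hq⟩ = 1 := by
            haveI := hVk
            exact IsKleinFour.mul_self _
          exact congrArg (fun a : V => ((a : N) : G)) h1
        have F : Frame z k :=
          ⟨T.hz, orderOf_two_of_mul_self (hsq k hk) hk1, fun h => hkz h.symm, T.hSz k (hV'S hk)⟩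
        have hV4 : V' = F.four := by
          refine Subgroup.eq_of_le_of_card_ge (fun q hq => ?_) (by rw [F.card_four, hcard])
          refine c.mem_four F (T.hSz q (hV'S hq)) ?_
          have h1 := hsq _ (mul_mem hk hq)
          show k * q = q * k
          calc k * q = (k * q)⁻¹ := (inv_eq_of_mul_eq_one_right h1).symm
            _ = q * k := by rw [mul_inv_rev, inv_eq_of_mul_eq_one_right (hsq k hk), inv_eq_of_mul_eq_one_right (hsq q hq)]
        have hn' : (n : G) ∈ Subgroup.normalizer (F.four : Set G) := by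
          rw [← hV4]
          refine mem_normalizer_of_conj_mem ?_
          rintro _ ⟨q, hq, rfl⟩
          exact ⟨n * q * n⁻¹, (Subgroup.mem_normalizer_iff.1 hn q).1 hq, rfl⟩
        exact hfix k (hV'S hk) F n hn' n.2
      · exact sup_le (Subgroup.centralizer_le_normalizer _) inf_le_right
    obtain ⟨P2, M, hMn, hMc⟩ := hcompl
    haveI := hMn
    have hMidx : M.index = Nat.card P2 := hMc.symm.index_eq_card
    obtain ⟨i, hi⟩ := IsPGroup.iff_card.1 P2.2
    have hodd_mem : ∀ g : N, Odd (orderOf g) → g ∈ M := fun g hg => by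
      rw [← QuotientGroup.eq_one_iff, ← orderOf_eq_one_iff]
      refine Nat.eq_one_of_dvd_coprimes ((Nat.coprime_two_right.2 hg).pow_right i)
        (orderOf_map_dvd (QuotientGroup.mk' M) g) ?_
      rw [← hi, ← hMidx, Subgroup.index_eq_card]
      exact orderOf_dvd_natCard _
    have hMo : Odd (Nat.card M) := by
      rw [← Nat.not_even_iff_odd, even_iff_two_dvd]
      intro h2
      have h := hMc.card_mul
      have hPc := P2.card_eq_multiplicity
      rw [hi] at hPc
      have hd : 2 ^ (i + 1) ∣ Nat.card N := by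
        rw [← h, hi, pow_succ']; exact mul_dvd_mul_right h2 _
      have h3 := (Nat.Prime.pow_dvd_iff_le_factorization Nat.prime_two Nat.card_pos.ne').1 hd
      have := Nat.pow_right_injective (le_refl 2) hPc
      omega
    set M' := M.map N.subtype with hM'
    have hM'o : Odd (Nat.card M') := by rw [hM', Subgroup.card_subtype]; exact hMo
    have hPM : P ≤ M' := fun p hp =>
      ⟨⟨p, Subgroup.le_normalizer hp⟩, hodd_mem _ (by
        rw [← Subgroup.orderOf_coe]; exact odd_orderOf_of_mem T.odd_P hp), rfl⟩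
    have hSM : (S : Subgroup G) ≤ Subgroup.normalizer (M' : Set G) := fun s hs => by
      refine mem_normalizer_of_conj_mem ?_
      rintro _ ⟨q, hq, rfl⟩
      exact ⟨⟨s, T.le_normalizer hs⟩ * q * ⟨s, T.le_normalizer hs⟩⁻¹, hMn.conj_mem q hq _, rfl⟩
    obtain ⟨Q, hQ⟩ := Coprime.exists_invariant_sylow (p := r) hSM (coprime_two_group S.2 hM'o)
      (Or.inl (Coprime.isSolvable_of_isPGroup S.2))
    set Q' := (Q : Subgroup M').map M'.subtype with hQ'
    have hPQ : P ≤ Q' := by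
      intro p hp
      have hn : (Q : Subgroup M') ≤ Subgroup.normalizer (P.subgroupOf M' : Set M') := fun q _ =>
        mem_normalizer_of_conj_mem fun p hp => by
          show (q : G) * p * (q : G)⁻¹ ∈ P
          exact (Subgroup.mem_normalizer_iff.1 (Subgroup.map_subtype_le _ q.2) p).1 hp
      have h := Q.3 (Q.2.to_sup_of_normal_right'
        (T.pg.comap_of_injective M'.subtype M'.subtype_injective) hn) le_sup_left
      exact ⟨⟨p, hPM hp⟩, h ▸ Subgroup.mem_sup_right hp, rfl⟩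
    obtain ⟨x, hx, Fx, hPx⟩ := T.frame
    have hQP : Q' = P := (Subgroup.eq_of_le_of_card_ge hPQ (T.max z x Q'
      ⟨Fx, Q.2.map _, (Fx.four_le T.z_mem hx).trans hQ,
        fun e => T.piece_z (le_bot_iff.1 (e ▸ inf_le_inf_right _ hPQ)),
        fun e => hPx (le_bot_iff.1 (e ▸ inf_le_inf_right _ hPQ))⟩)).symm
    -- `P` is a Sylow subgroup of `G`
    obtain ⟨PS, hPS⟩ := T.pg.exists_le_sylow
    have hPsyl : P = (PS : Subgroup G) := by
      by_contra hne
      obtain ⟨y, hy, hyn, hyP⟩ := exists_normalizer_gt PS.2 hPS hne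
      have hyM : y ∈ M' := ⟨⟨y, hyn⟩, hodd_mem _ (by
        rw [← Subgroup.orderOf_coe]; exact odd_orderOf_of_mem (odd_of_isPGroup T.hr2 PS.2) hy), rfl⟩
      have hQPS : (Q : Subgroup M') ≤ (PS : Subgroup G).subgroupOf M' := fun q hq => hPS (by
        rw [← hQP]; exact ⟨q, hq, rfl⟩)
      have h := Q.3 (PS.2.comap_of_injective M'.subtype M'.subtype_injective) hQPS
      refine hyP (hQP ▸ ⟨⟨y, hyM⟩, ?_, rfl⟩)
      rw [← h]; exact hy
    set R := Cfsg.centerThompsonOf r P with hR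
    have hRJ : R ≤ Cfsg.thompsonSubgroupOf r P := inf_le_left
    have hRP : R ≤ P := hRJ.trans (LocalP.thompsonSubgroupOf_le P)
    have hNR : N ≤ Subgroup.normalizer (R : Set G) :=
      OddLocal.normalizer_le_normalizer_centerThompsonOf P
    have hRne : R ≠ ⊥ := by
      set J := Cfsg.thompsonSubgroupOf r P with hJ
      have hPne : P ≠ ⊥ := fun e => T.piece_z (by rw [e, bot_inf_eq])
      haveI : Nontrivial P := (Subgroup.nontrivial_iff_ne_bot _).2 hPne
      obtain ⟨i, hi⟩ := T.pg.exists_card_eq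
      have hdvd : r ∣ Nat.card P := by
        rcases i with _ | i
        · exact absurd hi (Finite.one_lt_card.ne')
        · rw [hi]; exact dvd_pow_self r i.succ_ne_zero
      have hJne : J ≠ ⊥ := fun e => LocalP.thompsonSubgroup_ne_bot (p := r) (G := P) hdvd
        ((Subgroup.map_eq_bot_iff_of_injective _ P.subtype_injective).1 e)
      have hJp : IsPGroup r J := T.pg.to_le (LocalP.thompsonSubgroupOf_le P)
      haveI : Nontrivial J := (Subgroup.nontrivial_iff_ne_bot _).2 hJne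
      haveI := hJp.center_nontrivial
      obtain ⟨⟨d, hd⟩, hd1⟩ := exists_ne (1 : Subgroup.center J)
      refine ne_bot_of_mem (x := (d : G)) ⟨d.2, Subgroup.mem_centralizer_iff.2 fun y hy => ?_⟩
        fun e => hd1 (Subtype.ext (Subtype.ext e))
      exact congrArg Subtype.val (Subgroup.mem_center_iff.1 hd ⟨y, hy⟩)
    refine ⟨R, hRP, hRne, fun a ha b hb => (Subgroup.mem_centralizer_iff.1 ha.2 b hb.1).symm, hNR,
      fun k hk F g hg => ?_⟩
    obtain ⟨k', hk', F', e', hgood⟩ := T.piece_other F hk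
    rw [← e'] at hg
    obtain ⟨-, -, -, -, hXne⟩ := hgood
    obtain ⟨n, hn, hnk⟩ := c.exists_mover F'
    have hn_ne : n⁻¹ * z * n⁻¹⁻¹ ≠ z := fun e => by
      rw [← hnk] at e
      exact F'.ne (by rw [← hnk]; simpa [mul_assoc] using e.symm)
    set L := Subgroup.normalizer (R : Set G) with hL
    suffices hnL : n ∈ L from
      full_normalizer F' (fun a ha hza => hNR (T.le_normalizer (c.stab_mem F' T.hSz hk' ha hza)))
        (inv_mem hn) (inv_mem hnL) hn_ne g hg
    set X := P ⊓ U k' with hX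
    set X' := X.map (MulAut.conj n).toMonoidHom with hX'
    have hX'U : X' ≤ U z := by
      rintro _ ⟨q, hq, rfl⟩
      exact hnk ▸ conj_mem_U n hq.2
    have hX'P : ∀ q ∈ X, n * q * n⁻¹ ∈ P := fun q hq => by
      obtain ⟨j, hj⟩ := T.pg ⟨q, hq.1⟩
      refine T.mem_of_pow (hX'U ⟨q, hq, rfl⟩) (k := j) ?_
      rw [conj_pow]
      have : q ^ r ^ j = 1 := congrArg Subtype.val hj
      rw [this]; group
    obtain ⟨l, hl, hla⟩ := Cfsg.Agent.S0118.result T.hr2 (no_SL2_section c.twoDihedralLike T.hr2) PS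
      (X : Set G) (fun q hq => hPS hq.1) n⁻¹ (by
        rintro _ ⟨q, hq, rfl⟩
        rw [inv_inv]
        exact hPS (hX'P q hq))
    rw [← hPsyl, ← hR] at hl
    have hX'ne : X' ≠ ⊥ := fun e => hXne
      ((Subgroup.map_eq_bot_iff_of_injective X (MulAut.conj n).injective).1 e)
    have hnl : n * l ∈ Subgroup.centralizer (X' : Set G) := Subgroup.mem_centralizer_iff.2 (by
      rintro _ ⟨q, hq, rfl⟩
      have h1 := hla q hq
      rw [inv_inv] at h1
      simp only [MulEquiv.coe_toMonoidHom, MulAut.conj_apply]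
      calc n * q * n⁻¹ * (n * l) = n * l * (l⁻¹ * q * l) := by group
        _ = n * l * (n * q * n⁻¹) := by rw [h1])
    obtain ⟨hW0, -, hdec⟩ := c.W_spec T.hz hX'U hX'ne
    obtain ⟨w, hw, t, ht, ⟨j, hj⟩, hnwt⟩ := hdec _ hnl
    have htL : t ∈ L := hNR (T.le_normalizer (c.two_mem T.hz T.hSz ht hj))
    set l' := t * l⁻¹ with hl'
    have hl'L : l' ∈ L := mul_mem htL (inv_mem hl)
    have hnwl : n = w * l' := by rw [hl', ← mul_assoc, ← hnwt, mul_inv_cancel_right]
    have hVL : F'.four ≤ L := (T.four_le F' hk').trans hNR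
    have hVW : F'.four ≤ Subgroup.normalizer (W X' : Set G) := c.four_le_normalizer_W F' hX'U
    set K0 := L ⊓ W X' with hK0
    have hK0n : F'.four ≤ Subgroup.normalizer (K0 : Set G) := fun a ha =>
      mem_normalizer_of_conj_mem fun q hq => Subgroup.mem_inf.2
        ⟨mul_mem (mul_mem (hVL ha) (Subgroup.mem_inf.1 hq).1) (inv_mem (hVL ha)),
          (Subgroup.mem_normalizer_iff.1 (hVW ha) q).1 (Subgroup.mem_inf.1 hq).2⟩
    set B := F'.four.map (MulAut.conj w⁻¹).toMonoidHom with hB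
    have hBle : B ≤ F'.four ⊔ K0 := by
      rintro _ ⟨a, ha, rfl⟩
      simp only [MulEquiv.coe_toMonoidHom, MulAut.conj_apply, inv_inv]
      rw [show w⁻¹ * a * w = a * (a⁻¹ * w⁻¹ * a⁻¹⁻¹ * w) by group]
      refine mul_mem (Subgroup.mem_sup_left ha) (Subgroup.mem_sup_right (Subgroup.mem_inf.2 ⟨?_, ?_⟩))
      · rw [show a⁻¹ * w⁻¹ * a⁻¹⁻¹ * w = a⁻¹ * (l' * (n⁻¹ * a * n⁻¹⁻¹) * l'⁻¹) by rw [hnwl]; group]
        exact mul_mem (inv_mem (hVL ha)) (mul_mem (mul_mem hl'L
          (hVL ((Subgroup.mem_normalizer_iff.1 (inv_mem hn) a).1 ha))) (inv_mem hl'L))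
      · exact mul_mem ((Subgroup.mem_normalizer_iff.1 (inv_mem (hVW ha)) _).1 (inv_mem hw)) hw
    obtain ⟨d, hd, hBd⟩ := Coprime.exists_conj_eq_of_card_eq hK0n
      (coprime_two_group F'.isPGroup_four (odd_of_le hW0 inf_le_right))
      (Or.inl (Coprime.isSolvable_of_isPGroup F'.isPGroup_four)) hBle
      (Subgroup.card_map_of_injective (MulAut.conj w⁻¹).injective)
    have hwd : w * d = 1 := by
      have hwd' : w * d ∈ W X' := mul_mem hw hd.2
      have key : ∀ a ∈ F'.four, Commute a (w * d) := fun a ha => by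
        have h1 : d * a * d⁻¹ ∈ B := hBd ▸ ⟨a, ha, rfl⟩
        obtain ⟨b, hb, e⟩ := h1
        simp only [MulEquiv.coe_toMonoidHom, MulAut.conj_apply, inv_inv] at e
        have h2 : (w * d) * a * (w * d)⁻¹ = b := by
          calc (w * d) * a * (w * d)⁻¹ = w * (d * a * d⁻¹) * w⁻¹ := by group
            _ = w * (w⁻¹ * b * w) * w⁻¹ := by rw [e]
            _ = b := by group
        have h3 : (w * d) * a * (w * d)⁻¹ * a⁻¹ ∈ W X' := by
          rw [show (w * d) * a * (w * d)⁻¹ * a⁻¹ = (w * d) * (a * (w * d)⁻¹ * a⁻¹) by group]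
          exact mul_mem hwd' ((Subgroup.mem_normalizer_iff.1 (hVW ha) _).1 (inv_mem hwd'))
        have h4 : b * a⁻¹ ∈ F'.four := mul_mem hb (inv_mem ha)
        have h5 : b * a⁻¹ = 1 := eq_one_of_mul_self hW0 (h2 ▸ h3) (by
          rw [← pow_two]; exact F'.sq_four h4)
        rw [mul_inv_eq_one] at h5
        exact (mul_inv_eq_iff_eq_mul.1 (h2.trans h5)).symm
      exact c.fpf F' hW0 _ hwd' (key z F'.v_mem) (key k' F'.u_mem)
    rw [hnwl, eq_inv_of_mul_eq_one_left hwd]
    exact mul_mem (inv_mem hd.1) hl'L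

end MaxConf

end CfsgLib.DGroup48
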