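import Mathlib
import Cfsg.Prelude.Def_Amalgam
import Cfsg.Agent.LocalP.Basic
import Cfsg.Agent.CN.OddThreeStep
import Cfsg.Agent.S0205
import Cfsg.Agent.DGroup48.MaxConf

/-!
Pushing commutators between the cores of the centralisers of the pieces of an abelian group under a
four-group.
-/

set_option autoImplicit false

namespace CfsgLib.DGroup48

open scoped commutatorElement

variable {G : Type*} [Group G]

/-- The members of `A` inverted by `v`. -/
def B (A : Subgroup G) (v : G) : Subgroup G :=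
  Subgroup.closure {a | a ∈ A ∧ v * a * v⁻¹ = a⁻¹}

theorem B_le (A : Subgroup G) (v : G) : B A v ≤ A := (Subgroup.closure_le _).2 fun _ ha => ha.1

/-- The piece commutator attached to an involution. -/
def piece (s : ℕ) (A : Subgroup G) (v : G) : Subgroup G :=
  ⁅Cfsg.pCoreOf s (W (B A v)), A ⊓ U v⁆

theorem map_conj_eq_of_mem {K : Subgroup G} {g : G} (h : g ∈ Subgroup.normalizer (K : Set G)) :
    K.map (MulAut.conj g).toMonoidHom = K :=
  (Subgroup.mem_normalizer_iff_map_conj_eq.1 h)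

variable [Finite G]

theorem pCoreOf_le' (s : ℕ) (K : Subgroup G) : Cfsg.pCoreOf s K ≤ K := Subgroup.map_subtype_le _

theorem isPGroup_core (s : ℕ) [Fact s.Prime] (K : Subgroup G) : IsPGroup s (Cfsg.pCoreOf s K) :=
  LocalP.isPGroup_pCore.map _

theorem le_core {s : ℕ} {D K : Subgroup G} (hDK : D ≤ K) (hp : IsPGroup s D)
    (hn : K ≤ Subgroup.normalizer (D : Set G)) : D ≤ Cfsg.pCoreOf s K := fun x hx =>
  ⟨⟨x, hDK hx⟩, LocalP.le_pCore (Subgroup.normal_subgroupOf_of_le_normalizer hn)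
    (hp.comap_of_injective _ K.subtype_injective)
    (show (⟨x, hDK hx⟩ : K) ∈ D.subgroupOf K from hx), rfl⟩

theorem le_normalizer_core (s : ℕ) [Fact s.Prime] (K : Subgroup G) :
    K ≤ Subgroup.normalizer (Cfsg.pCoreOf s K : Set G) := fun k hk => by
  refine mem_normalizer_of_conj_mem ?_
  rintro _ ⟨x, hx, rfl⟩
  have hN : (Cfsg.pCore s K).Normal := Subgroup.sSup_normal _ fun _ h => h.1
  exact ⟨⟨k, hk⟩ * x * ⟨k, hk⟩⁻¹, hN.conj_mem x hx _, rfl⟩

theorem map_core_le (s : ℕ) [Fact s.Prime] (K : Subgroup G) (g : G) :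
    (Cfsg.pCoreOf s K).map (MulAut.conj g).toMonoidHom ≤
      Cfsg.pCoreOf s (K.map (MulAut.conj g).toMonoidHom) := by
  refine le_core (Subgroup.map_mono (pCoreOf_le' s K)) ((isPGroup_core s K).map _) ?_
  rintro _ ⟨k, hk, rfl⟩
  refine mem_normalizer_of_conj_mem ?_
  rintro _ ⟨x, hx, rfl⟩
  exact ⟨k * x * k⁻¹, (Subgroup.mem_normalizer_iff.1 (le_normalizer_core s K hk) x).1 hx, by simp [mul_assoc]⟩

theorem normalizer_le_normalizer_core (s : ℕ) [Fact s.Prime] (K : Subgroup G) :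
    Subgroup.normalizer (K : Set G) ≤ Subgroup.normalizer (Cfsg.pCoreOf s K : Set G) := fun g hg =>
  mem_normalizer_of_conj_mem fun x hx => by
    have h := map_core_le s K g ⟨x, hx, rfl⟩
    rwa [map_conj_eq_of_mem hg] at h

theorem map_W_le (Y : Subgroup G) (g : G) :
    (W Y).map (MulAut.conj g).toMonoidHom ≤ W (Y.map (MulAut.conj g).toMonoidHom) := by
  rw [W, MonoidHom.map_closure, Subgroup.closure_le]
  rintro _ ⟨x, hx, rfl⟩
  refine Subgroup.subset_closure ⟨Subgroup.mem_centralizer_iff.2 ?_, odd_orderOf_conj g x hx.2⟩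
  rintro _ ⟨y, hy, rfl⟩
  have := Subgroup.mem_centralizer_iff.1 hx.1 y hy
  simp only [MulEquiv.coe_toMonoidHom, MulAut.conj_apply]
  calc g * y * g⁻¹ * (g * x * g⁻¹) = g * (y * x) * g⁻¹ := by group
    _ = g * (x * y) * g⁻¹ := by rw [this]
    _ = g * x * g⁻¹ * (g * y * g⁻¹) := by group

theorem map_W (Y : Subgroup G) (g : G) :
    (W Y).map (MulAut.conj g).toMonoidHom = W (Y.map (MulAut.conj g).toMonoidHom) := by
  refine le_antisymm (map_W_le Y g) fun x hx => ⟨g⁻¹ * x * g⁻¹⁻¹, ?_, by simp [mul_assoc]⟩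
  have h := map_W_le (Y.map (MulAut.conj g).toMonoidHom) g⁻¹ ⟨x, hx, rfl⟩
  rw [Subgroup.map_map] at h
  have e : ((MulAut.conj g⁻¹).toMonoidHom).comp (MulAut.conj g).toMonoidHom = MonoidHom.id G := by
    ext y; simp [mul_assoc]
  rwa [e, Subgroup.map_id] at h

theorem map_piece_inf (A : Subgroup G) (v : G) {g : G} (hg : g ∈ Subgroup.normalizer (A : Set G)) :
    (A ⊓ U v).map (MulAut.conj g).toMonoidHom ≤ A ⊓ U (g * v * g⁻¹) := by
  rintro _ ⟨a, ha, rfl⟩
  exact ⟨(Subgroup.mem_normalizer_iff.1 hg a).1 ha.1, conj_mem_U g ha.2⟩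

theorem map_piece_inf_eq (A : Subgroup G) (v : G) {g : G} (hg : g ∈ Subgroup.normalizer (A : Set G)) :
    (A ⊓ U v).map (MulAut.conj g).toMonoidHom = A ⊓ U (g * v * g⁻¹) := by
  refine le_antisymm (map_piece_inf A v hg) fun a ha => ⟨g⁻¹ * a * g⁻¹⁻¹, ?_, by simp [mul_assoc]⟩
  have h := map_piece_inf A (g * v * g⁻¹) (inv_mem hg) ⟨a, ha, rfl⟩
  rw [show g⁻¹ * (g * v * g⁻¹) * g⁻¹⁻¹ = v by group] at h
  exact h

theorem map_B_le (A : Subgroup G) (v : G) {g : G} (hg : g ∈ Subgroup.normalizer (A : Set G)) :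
    (B A v).map (MulAut.conj g).toMonoidHom ≤ B A (g * v * g⁻¹) := by
  rw [B, MonoidHom.map_closure, Subgroup.closure_le]
  rintro _ ⟨a, ⟨ha, hva⟩, rfl⟩
  refine Subgroup.subset_closure ⟨(Subgroup.mem_normalizer_iff.1 hg a).1 ha, ?_⟩
  simp only [MulEquiv.coe_toMonoidHom, MulAut.conj_apply]
  rw [show g * v * g⁻¹ * (g * a * g⁻¹) * (g * v * g⁻¹)⁻¹ = g * (v * a * v⁻¹) * g⁻¹ by group, hva]
  group

theorem map_B (A : Subgroup G) (v : G) {g : G} (hg : g ∈ Subgroup.normalizer (A : Set G)) :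
    (B A v).map (MulAut.conj g).toMonoidHom = B A (g * v * g⁻¹) := by
  refine le_antisymm (map_B_le A v hg) fun a ha => ⟨g⁻¹ * a * g⁻¹⁻¹, ?_, by simp [mul_assoc]⟩
  have h := map_B_le A (g * v * g⁻¹) (inv_mem hg) ⟨a, ha, rfl⟩
  rw [show g⁻¹ * (g * v * g⁻¹) * g⁻¹⁻¹ = v by group] at h
  exact h

theorem map_piece (s : ℕ) [Fact s.Prime] (A : Subgroup G) (v : G) {g : G}
    (hg : g ∈ Subgroup.normalizer (A : Set G)) :
    (piece s A v).map (MulAut.conj g).toMonoidHom ≤ piece s A (g * v * g⁻¹) := by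
  rw [piece, piece, Subgroup.map_commutator, map_piece_inf_eq A v hg, ← map_B A v hg, ← map_W]
  exact Subgroup.commutator_mono (map_core_le s _ g) le_rfl

/-- A normal nilpotent subgroup: its elements of `s`-power order lie in the `s`-core. -/
theorem mem_core_of_nilpotent {s : ℕ} [Fact s.Prime] {K : Subgroup G} {N : Subgroup K} (hN : N.Normal)
    (hNn : Group.IsNilpotent N) {x : K} (hx : x ∈ N) {k : ℕ} (hk : (x : G) ^ s ^ k = 1) :
    (x : G) ∈ Cfsg.pCoreOf s K := by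
  haveI := hN
  haveI := hNn
  have hxp : IsPGroup s (Subgroup.zpowers (⟨x, hx⟩ : N)) := by
    rintro ⟨_, i, rfl⟩
    refine ⟨k, Subtype.ext ?_⟩
    show ((⟨x, hx⟩ : N) ^ i) ^ (s ^ k) = 1
    rw [← zpow_natCast, ← zpow_mul, mul_comm, zpow_mul, zpow_natCast,
      show (⟨x, hx⟩ : N) ^ (s ^ k) = 1 from Subtype.ext (Subtype.ext hk), one_zpow]
  obtain ⟨Q, hQ⟩ := hxp.exists_le_sylow
  haveI : (Q : Subgroup N).Normal := inferInstance
  haveI := Q.characteristic_of_normal inferInstance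
  exact ⟨x, LocalP.le_pCore (inferInstance : ((Q : Subgroup N).map N.subtype).Normal) (Q.2.map _)
    ⟨⟨x, hx⟩, hQ (Subgroup.mem_zpowers _), rfl⟩, rfl⟩

/-- Two cores for different primes commute. -/
theorem commute_core {p q : ℕ} [Fact p.Prime] [Fact q.Prime] (hpq : p ≠ q) {K : Subgroup G} {x y : G}
    (hx : x ∈ Cfsg.pCoreOf p K) (hy : y ∈ Cfsg.pCoreOf q K) : Commute x y := by
  obtain ⟨a, ha, rfl⟩ := hx
  obtain ⟨b, hb, rfl⟩ := hy
  have hp : (Cfsg.pCore p K).Normal := Subgroup.sSup_normal _ fun _ h => h.1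
  have hq : (Cfsg.pCore q K).Normal := Subgroup.sSup_normal _ fun _ h => h.1
  exact (Subgroup.commute_of_normal_of_disjoint _ _ hp hq
    (LocalP.isPGroup_pCore.disjoint_of_ne p q hpq _ _ LocalP.isPGroup_pCore) a b ha hb).map K.subtype

/-- An element of a normal nilpotent subgroup with order prime to `s` centralises the `s`-core. -/
theorem mem_centralizer_core {s : ℕ} [Fact s.Prime] {K : Subgroup G} {N : Subgroup K} (hN : N.Normal)
    (hNn : Group.IsNilpotent N) {x : K} (hx : x ∈ N) (ho : (orderOf (x : G)).Coprime s) :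
    (x : G) ∈ Subgroup.centralizer (Cfsg.pCoreOf s K : Set G) := by
  refine CN.mem_of_prime_parts _ _ _ rfl fun q m hq hm => ?_
  haveI := Fact.mk hq
  by_cases hm1 : (x : G) ^ m = 1
  · rw [hm1]; exact one_mem _
  obtain ⟨j, hj⟩ := CN.orderOf_pow_of_isPGroup_zpowers hm
  have hqs : q ≠ s := by
    rintro rfl
    have hj0 : j ≠ 0 := fun h0 => hm1 (orderOf_eq_one_iff.1 (by rw [hj, h0, pow_zero]))
    exact hq.ne_one (Nat.eq_one_of_dvd_coprimes ho
      ((dvd_pow_self q hj0).trans (hj ▸ orderOf_pow_dvd m)) dvd_rfl)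
  have h : ((x ^ m : K) : G) ∈ Cfsg.pCoreOf q K := mem_core_of_nilpotent hN hNn (pow_mem hx m) (k := j) (by
    rw [Subgroup.coe_pow, ← hj, pow_orderOf_eq_one])
  rw [Subgroup.coe_pow] at h
  exact Subgroup.mem_centralizer_iff.2 fun y hy => (commute_core (Ne.symm hqs) hy h).eq

/-- Ward's nilpotent normal subgroup of an odd group under a fixed-point-free frame. -/
theorem Ctx.exists_ward (c : Ctx G) {v u : G} (F : Frame v u) {K : Subgroup G} (hK : Odd (Nat.card K))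
    (hn : F.four ≤ Subgroup.normalizer (K : Set G)) :
    ∃ N : Subgroup K, N.Normal ∧ Group.IsNilpotent N ∧ ∃ k : ℕ, (⊤ : Subgroup K).lowerCentralSeries k ≤ N :=
  exists_nilpotent_normal F (Cfsg.Agent.S0205.result hK) hK (hn F.v_mem) (hn F.u_mem) (c.fpf F hK)

/-- A `s`-group equal to its own commutator lies in the `s`-core. -/
theorem Ctx.le_core_of_commutator (c : Ctx G) {v u : G} (F : Frame v u) {s : ℕ} [Fact s.Prime]
    {K T A : Subgroup G} (hK : Odd (Nat.card K)) (hn : F.four ≤ Subgroup.normalizer (K : Set G))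
    (hT : T ≤ K) (hTp : IsPGroup s T) (hA : A ≤ K) (hTA : T ≤ ⁅T, A⁆) : T ≤ Cfsg.pCoreOf s K := by
  obtain ⟨N, hN, hNn, k, hk⟩ := c.exists_ward F hK hn
  have hmap : (⁅T.subgroupOf K, A.subgroupOf K⁆).map K.subtype = ⁅T, A⁆ := by
    rw [Subgroup.map_commutator, Subgroup.subgroupOf_map_subtype, Subgroup.subgroupOf_map_subtype,
      inf_eq_left.2 hT, inf_eq_left.2 hA]
  have h1 : T.subgroupOf K ≤ ⁅T.subgroupOf K, A.subgroupOf K⁆ := fun x hx => by
    have := hTA (show (x : G) ∈ T from hx)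
    rw [← hmap] at this
    obtain ⟨y, hy, e⟩ := this
    exact K.subtype_injective e ▸ hy
  have h2 : ∀ j, T.subgroupOf K ≤ (⊤ : Subgroup K).lowerCentralSeries j := by
    intro j
    induction j with
    | zero => rw [Subgroup.lowerCentralSeries_zero]; exact le_top
    | succ j ih =>
      rw [Subgroup.lowerCentralSeries_succ]
      exact h1.trans (Subgroup.commutator_mono ih le_top)
  intro x hx
  obtain ⟨i, hi⟩ := hTp ⟨x, hx⟩
  exact mem_core_of_nilpotent hN hNn (x := ⟨x, hT hx⟩) (hk (h2 k hx)) (k := i) (congrArg Subtype.val hi)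

/-- A frame normalising `A` with three non-trivial pieces. -/
structure AFrame (c : Ctx G) (r : ℕ) (A : Subgroup G) (v u : G) : Prop where
  frame : Frame v u
  pA : IsPGroup r A
  comm : ∀ a ∈ A, ∀ b ∈ A, Commute a b
  nA : ∀ g ∈ frame.four, g ∈ Subgroup.normalizer (A : Set G)
  nev : A ⊓ U v ≠ ⊥
  neu : A ⊓ U u ≠ ⊥
  new : A ⊓ U (v * u) ≠ ⊥
  hr2 : r ≠ 2

namespace AFrame

variable {c : Ctx G} {r : ℕ} {A : Subgroup G} {v u : G}

theorem third (E : AFrame c r A v u) : AFrame c r A v (v * u) :=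
  ⟨E.frame.third, E.pA, E.comm, E.frame.four_third.symm ▸ E.nA, E.nev, E.new,
    E.frame.mul_mul_left.symm ▸ E.neu, E.hr2⟩

theorem symm (E : AFrame c r A v u) : AFrame c r A u v :=
  ⟨E.frame.symm, E.pA, E.comm, E.frame.four_symm.symm ▸ E.nA, E.neu, E.nev,
    E.frame.comm.eq ▸ E.new, E.hr2⟩

theorem swap (E : AFrame c r A v u) : AFrame c r A (v * u) u := by
  have h := E.symm.third
  rw [← E.frame.comm.eq] at h
  exact h.symm

theorem le_W {X : Subgroup G} (E : AFrame c r A v u) [Fact r.Prime] (hX : X ≤ A) : A ≤ W X :=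
  DGroup48.le_W (odd_of_isPGroup E.hr2 E.pA) fun a ha x hx => E.comm a ha x (hX hx)

theorem inf_le_B (E : AFrame c r A v u) : A ⊓ U u ≤ B A v := fun _ ha =>
  Subgroup.subset_closure ⟨ha.1, c.inverts E.frame.symm ha.2⟩

theorem B_le_sup (E : AFrame c r A v u) [Fact r.Prime] : B A v ≤ (A ⊓ U u) ⊔ (A ⊓ U (v * u)) := by
  rw [B, Subgroup.closure_le]
  rintro a ⟨ha, hva⟩
  have F := E.frame
  have hAo : Odd (Nat.card A) := odd_of_isPGroup E.hr2 E.pA
  have huA := E.nA u F.u_mem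
  have hvA := E.nA v F.v_mem
  set a' := u * a * u⁻¹ with ha'
  have ha'A : a' ∈ A := (Subgroup.mem_normalizer_iff.1 huA a).1 ha
  have huu := mul_self_of_orderOf F.ou
  have h1 : u * a' * u⁻¹ = a := by
    rw [ha', show u * (u * a * u⁻¹) * u⁻¹ = (u * u) * a * (u * u)⁻¹ by group, huu]; group
  have h2 : v * a' * v⁻¹ = a'⁻¹ := by
    rw [ha', show v * (u * a * u⁻¹) * v⁻¹ = (v * u) * a * (v * u)⁻¹ * 1 by
      rw [show (v * u) * a * (v * u)⁻¹ * 1 = v * (u * a * u⁻¹) * v⁻¹ by group], F.comm.eq,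
      show u * v * a * (u * v)⁻¹ * 1 = u * (v * a * v⁻¹) * u⁻¹ by group, hva]
    group
  have hb : a * a' ∈ A ⊓ U u := by
    refine ⟨mul_mem ha ha'A, (c.mem_U F.ou).2 ⟨?_, odd_orderOf_of_mem hAo (mul_mem ha ha'A)⟩⟩
    show u * (a * a') = (a * a') * u
    rw [← mul_inv_eq_iff_eq_mul, show u * (a * a') * u⁻¹ = (u * a * u⁻¹) * (u * a' * u⁻¹) by group, h1, ← ha']
    exact (E.comm a ha a' ha'A).eq.symm
  have hc : a * a'⁻¹ ∈ A ⊓ U (v * u) := by
    refine Subgroup.mem_inf.2 ⟨mul_mem ha (inv_mem ha'A),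
      (c.mem_U F.orderOf_mul).2 ⟨?_, odd_orderOf_of_mem hAo (mul_mem ha (inv_mem ha'A))⟩⟩
    show (v * u) * (a * a'⁻¹) = (a * a'⁻¹) * (v * u)
    rw [← mul_inv_eq_iff_eq_mul,
      show (v * u) * (a * a'⁻¹) * (v * u)⁻¹ = (v * (u * a * u⁻¹) * v⁻¹) * (v * (u * a' * u⁻¹) * v⁻¹)⁻¹ by group,
      h1, ← ha', h2, hva, inv_inv]
    exact (E.comm a'⁻¹ (inv_mem ha'A) a ha).eq
  refine mem_of_sq_mem (odd_orderOf_of_mem hAo ha) ?_
  rw [show a * a = (a * a') * (a * a'⁻¹) by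
    rw [mul_assoc, ← mul_assoc a', (E.comm a' ha'A a ha).eq, mul_inv_cancel_right]]
  exact mul_mem (Subgroup.mem_sup_left hb) (Subgroup.mem_sup_right hc)

theorem le_sup [Fact r.Prime] (E : AFrame c r A v u) :
    A ≤ (A ⊓ U v) ⊔ ((A ⊓ U u) ⊔ (A ⊓ U (v * u))) := by
  have hAo : Odd (Nat.card A) := odd_of_isPGroup E.hr2 E.pA
  refine gen_le E.frame hAo (E.nA v E.frame.v_mem) (E.nA u E.frame.u_mem) ?_ ?_ ?_
  · exact fun w hw hc => Subgroup.mem_sup_left ⟨hw, (c.mem_U E.frame.ov).2 ⟨hc, odd_orderOf_of_mem hAo hw⟩⟩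
  · exact fun w hw hc => Subgroup.mem_sup_right (Subgroup.mem_sup_left
      ⟨hw, (c.mem_U E.frame.ou).2 ⟨hc, odd_orderOf_of_mem hAo hw⟩⟩)
  · exact fun w hw hc => Subgroup.mem_sup_right (Subgroup.mem_sup_right
      ⟨hw, (c.mem_U E.frame.orderOf_mul).2 ⟨hc, odd_orderOf_of_mem hAo hw⟩⟩)

variable [Fact r.Prime] {s : ℕ} [Fact s.Prime]

theorem B_ne_bot (E : AFrame c r A v u) : B A v ≠ ⊥ := fun e =>
  E.neu (le_bot_iff.1 (e ▸ E.inf_le_B))

theorem odd_W_B (E : AFrame c r A v u) : Odd (Nat.card (W (B A v))) :=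
  odd_of_le (c.odd_W E.frame.ou inf_le_right E.neu) (W_antitone E.inf_le_B)

theorem four_W_B (E : AFrame c r A v u) :
    E.frame.four ≤ Subgroup.normalizer (W (B A v) : Set G) := by
  refine le_trans ?_ (normalizer_le_normalizer_W _)
  intro g hg
  have hgv : g * v * g⁻¹ = v := by
    have h := congrArg Subtype.val (E.frame.four_comm.is_comm.comm ⟨g, hg⟩ ⟨v, E.frame.v_mem⟩)
    rw [show g * v = v * g from h, mul_inv_cancel_right]
  rw [Subgroup.mem_normalizer_iff_map_conj_eq]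
  exact (map_B A v (E.nA g hg)).trans (by rw [hgv])

/-- An invariant `s`-group: its commutator with `A ∩ U v` is centralised by `A ∩ U u`. -/
theorem sector' (E : AFrame c r A v u) (hrs : r ≠ s) (hs2 : s ≠ 2) {Q : Subgroup G} (hQ : IsPGroup s Q)
    (hQn : E.frame.four ≤ Subgroup.normalizer (Q : Set G))
    (hv : A ⊓ U v ≤ Subgroup.normalizer (Q : Set G)) (hu : A ⊓ U u ≤ Subgroup.normalizer (Q : Set G)) :
    ⁅Q, A ⊓ U v⁆ ≤ Subgroup.centralizer ((A ⊓ U u : Subgroup G) : Set G) := by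
  have F := E.frame
  have hcop : ∀ X : Subgroup G, X ≤ A → (Nat.card X).Coprime s := fun X hX => by
    obtain ⟨n, hn⟩ := (E.pA.to_le hX).exists_card_eq
    exact hn ▸ ((Nat.coprime_primes Fact.out Fact.out).2 hrs).pow_left n
  have hQo : Odd (Nat.card Q) := odd_of_isPGroup hs2 hQ
  have hAo : Odd (Nat.card A) := odd_of_isPGroup E.hr2 E.pA
  exact sector hs2 hQ (mul_self_of_orderOf F.ov) (mul_self_of_orderOf F.ou) F.comm (hQn F.v_mem)
    (hQn F.u_mem) (c.fpf F hQo) hv hu (hcop _ inf_le_left) (hcop _ inf_le_left)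
    (odd_of_le hAo inf_le_left) (odd_of_le hAo inf_le_left)
    (fun a ha => by rw [(c.commute_U F.ov ha.2).eq, mul_inv_cancel_right])
    (fun a ha => c.inverts F ha.2) (fun b hb => c.inverts F.symm hb.2)
    (fun a ha b hb => E.comm a ha.1 b hb.1)

theorem commutator_self (E : AFrame c r A v u) (hrs : r ≠ s) {Q : Subgroup G} (hQ : IsPGroup s Q)
    (hv : A ⊓ U v ≤ Subgroup.normalizer (Q : Set G)) :
    ⁅Q, A ⊓ U v⁆ ≤ ⁅⁅Q, A ⊓ U v⁆, A ⊓ U v⁆ := by
  refine (Coprime.commutator_commutator_eq hv ?_ (Or.inr (Coprime.isSolvable_of_isPGroup hQ))).ge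
  obtain ⟨m, hm⟩ := hQ.exists_card_eq
  obtain ⟨n, hn⟩ := (E.pA.to_le (inf_le_left : A ⊓ U v ≤ A)).exists_card_eq
  exact hm ▸ hn ▸ ((Nat.coprime_primes Fact.out Fact.out).2 hrs).pow n m

/-- Push a commutator into the core attached to the next piece. -/
theorem push (E : AFrame c r A v u) (hrs : r ≠ s) (hs2 : s ≠ 2) {Q : Subgroup G} (hQ : IsPGroup s Q)
    (hQn : E.frame.four ≤ Subgroup.normalizer (Q : Set G))
    (hv : A ⊓ U v ≤ Subgroup.normalizer (Q : Set G)) (hu : A ⊓ U u ≤ Subgroup.normalizer (Q : Set G)) :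
    ⁅Q, A ⊓ U v⁆ ≤ ⁅Cfsg.pCoreOf s (W (A ⊓ U u)), A ⊓ U v⁆ := by
  set T := ⁅Q, A ⊓ U v⁆ with hT
  have hTp : IsPGroup s T := hQ.to_le (Coprime.commutator_le_of_le_normalizer hv)
  have hTW : T ≤ W (A ⊓ U u) := DGroup48.le_W (odd_of_isPGroup hs2 hTp) fun t ht y hy =>
    (Subgroup.mem_centralizer_iff.1 (E.sector' hrs hs2 hQ hQn hv hu ht) y hy).symm
  have hT2 : T ≤ ⁅T, A ⊓ U v⁆ := E.commutator_self hrs hQ hv
  have hTO : T ≤ Cfsg.pCoreOf s (W (A ⊓ U u)) := c.le_core_of_commutator E.frame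
    (c.odd_W E.frame.ou inf_le_right E.neu)
    (E.frame.four_symm ▸ c.four_le_normalizer_W E.frame.symm inf_le_right) hTW hTp
    (inf_le_left.trans (E.le_W inf_le_left)) hT2
  exact hT2.trans (Subgroup.commutator_mono hTO le_rfl)

/-- Push a commutator into the intrinsic piece. -/
theorem push_piece (E : AFrame c r A v u) (hrs : r ≠ s) (hs2 : s ≠ 2) {Q : Subgroup G} (hQ : IsPGroup s Q)
    (hQn : E.frame.four ≤ Subgroup.normalizer (Q : Set G)) (hA : A ≤ Subgroup.normalizer (Q : Set G)) :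
    ⁅Q, A ⊓ U v⁆ ≤ piece s A v := by
  set T := ⁅Q, A ⊓ U v⁆ with hT
  have hv : A ⊓ U v ≤ Subgroup.normalizer (Q : Set G) := inf_le_left.trans hA
  have hTp : IsPGroup s T := hQ.to_le (Coprime.commutator_le_of_le_normalizer hv)
  have h1 := E.sector' hrs hs2 hQ hQn hv (inf_le_left.trans hA)
  have h2 := E.third.sector' hrs hs2 hQ (E.frame.four_third.symm ▸ hQn) hv (inf_le_left.trans hA)
  have hTC : T ≤ Subgroup.centralizer (((A ⊓ U u) ⊔ (A ⊓ U (v * u)) : Subgroup G) : Set G) := by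
    rw [Subgroup.le_centralizer_iff] at h1 h2 ⊢
    exact sup_le h1 h2
  have hTW : T ≤ W (B A v) := DGroup48.le_W (odd_of_isPGroup hs2 hTp) fun t ht y hy =>
    (Subgroup.mem_centralizer_iff.1 (hTC ht) y (E.B_le_sup hy)).symm
  have hT2 : T ≤ ⁅T, A ⊓ U v⁆ := E.commutator_self hrs hQ hv
  have hTO : T ≤ Cfsg.pCoreOf s (W (B A v)) := c.le_core_of_commutator E.frame E.odd_W_B E.four_W_B hTW hTp
    (inf_le_left.trans (E.le_W (B_le A v))) hT2
  exact hT2.trans (Subgroup.commutator_mono hTO le_rfl)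

theorem core_invariant (E : AFrame c r A v u) :
    E.frame.four ≤ Subgroup.normalizer (Cfsg.pCoreOf s (W (A ⊓ U v)) : Set G) :=
  (c.four_le_normalizer_W E.frame inf_le_right).trans (normalizer_le_normalizer_core s _)

/-- The intrinsic piece seen in the core at the next member. -/
theorem piece_eq (E : AFrame c r A v u) (hrs : r ≠ s) (hs2 : s ≠ 2) :
    piece s A v = ⁅Cfsg.pCoreOf s (W (A ⊓ U u)), A ⊓ U v⁆ := by
  have hA1 : A ≤ Subgroup.normalizer (Cfsg.pCoreOf s (W (B A v)) : Set G) :=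
    (E.le_W (B_le A v)).trans (le_normalizer_core s _)
  have hA2 : A ≤ Subgroup.normalizer (Cfsg.pCoreOf s (W (A ⊓ U u)) : Set G) :=
    (E.le_W inf_le_left).trans (le_normalizer_core s _)
  refine le_antisymm ?_ (E.push_piece hrs hs2 (isPGroup_core s _) ?_ hA2)
  · exact E.push hrs hs2 (isPGroup_core s _) (E.four_W_B.trans (normalizer_le_normalizer_core s _))
      (inf_le_left.trans hA1) (inf_le_left.trans hA1)
  · exact E.frame.four_symm ▸ E.symm.core_invariant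

end AFrame

end CfsgLib.DGroup48
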