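import Mathlib
import Cfsg.Agent.DGroup48.Push
import Cfsg.Agent.S0223
import Cfsg.Agent.S1221

/-!
The normaliser of a non-trivial subgroup of the odd part of an involution centraliser lies in that
centraliser.
-/

set_option autoImplicit false

namespace CfsgLib.DGroup48

open scoped commutatorElement

variable {G : Type*} [Group G] [Finite G] {v u z : G} {r : ℕ}

/-- A property invariant under the normaliser of a frame holds at all three members. -/
theorem Ctx.members (c : Ctx G) (F : Frame v u) {p : G → Prop}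
    (hp : ∀ g ∈ Subgroup.normalizer (F.four : Set G), ∀ a, p a → p (g * a * g⁻¹))
    (h : p v ∨ p u ∨ p (v * u)) : p v ∧ p u ∧ p (v * u) := by
  obtain ⟨n, hn, hnu⟩ := c.exists_mover F
  obtain ⟨n', hn', hnu'⟩ := c.exists_mover F.third
  rw [F.four_third] at hn'
  have hv : p v := by
    rcases h with h | h | h
    · exact h
    · exact hnu ▸ hp n hn u h
    · exact hnu' ▸ hp n' hn' _ h
  refine ⟨hv, ?_, ?_⟩
  · have := hp n⁻¹ (inv_mem hn) v hv
    rwa [← hnu, show n⁻¹ * (n * u * n⁻¹) * n⁻¹⁻¹ = u by group] at this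
  · have := hp n'⁻¹ (inv_mem hn') v hv
    rwa [← hnu', show n'⁻¹ * (n' * (v * u) * n'⁻¹) * n'⁻¹⁻¹ = v * u by group] at this

/-- What the maximal configuration gives. -/
structure Core (c : Ctx G) (r : ℕ) (z : G) (S : Sylow 2 G) (A : Subgroup G) : Prop where
  hr2 : r ≠ 2
  hz : orderOf z = 2
  hSz : ∀ s ∈ (S : Subgroup G), Commute z s
  frame : ∃ x ∈ (S : Subgroup G), Frame z x
  pA : IsPGroup r A
  comm : ∀ a ∈ A, ∀ b ∈ A, Commute a b
  ne : A ≠ ⊥
  nS : (S : Subgroup G) ≤ Subgroup.normalizer (A : Set G)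
  norm : ∀ k ∈ (S : Subgroup G), ∀ F : Frame z k, ∀ g ∈ Subgroup.normalizer (F.four : Set G),
    g ∈ Subgroup.normalizer (A : Set G)
  rU : ∀ a ∈ U z, ∀ k : ℕ, a ^ r ^ k = 1 → a ∈ Subgroup.normalizer (A : Set G)

namespace Core

variable {c : Ctx G} {S : Sylow 2 G} {A : Subgroup G} [Fact r.Prime]

theorem z_mem (C : Core c r z S A) : z ∈ (S : Subgroup G) :=
  c.two_mem C.hz C.hSz (c.mem z C.hz) (k := 1) (by rw [pow_one, pow_two, mul_self_of_orderOf C.hz])

theorem aframe (C : Core c r z S A) {k : G} (F : Frame z k) (hk : k ∈ (S : Subgroup G)) :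
    AFrame c r A z k := by
  have hn : F.four ≤ Subgroup.normalizer (A : Set G) := (F.four_le C.z_mem hk).trans C.nS
  obtain ⟨h1, h2, h3⟩ := c.members F (p := fun a => A ⊓ U a ≠ ⊥) (fun g hg a ha e => ha (by
      have := map_piece_inf_eq A a (C.norm k hk F g hg)
      rw [e] at this
      exact (Subgroup.map_eq_bot_iff_of_injective _ (MulAut.conj g).injective).1 this))
    (c.exists_piece F (odd_of_isPGroup C.hr2 C.pA) hn C.ne)
  exact ⟨F, C.pA, C.comm, hn, h1, h2, h3, C.hr2⟩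

variable {s : ℕ} [Fact s.Prime]

theorem piece_le (C : Core c r z S A) (hrs : r ≠ s) (hs2 : s ≠ 2) {k : G} (F : Frame z k)
    (hk : k ∈ (S : Subgroup G)) :
    piece s A k ≤ Cfsg.pCoreOf s (W (A ⊓ U z)) ∧ piece s A (z * k) ≤ Cfsg.pCoreOf s (W (A ⊓ U z)) := by
  have E := C.aframe F hk
  have hA : A ≤ Subgroup.normalizer (Cfsg.pCoreOf s (W (A ⊓ U z)) : Set G) :=
    (E.le_W inf_le_left).trans (le_normalizer_core s _)
  rw [E.symm.piece_eq hrs hs2, E.third.symm.piece_eq hrs hs2]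
  exact ⟨Coprime.commutator_le_of_le_normalizer (inf_le_left.trans hA),
    Coprime.commutator_le_of_le_normalizer (inf_le_left.trans hA)⟩

/-- `⁅O_s(W_z), A⁆` splits into the pieces of the other two members. -/
theorem comm_eq (C : Core c r z S A) (hrs : r ≠ s) (hs2 : s ≠ 2) {k : G} (F : Frame z k)
    (hk : k ∈ (S : Subgroup G)) :
    ⁅Cfsg.pCoreOf s (W (A ⊓ U z)), A⁆ = piece s A k ⊔ piece s A (z * k) := by
  have E := C.aframe F hk
  set Q := Cfsg.pCoreOf s (W (A ⊓ U z)) with hQ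
  have hA : A ≤ Subgroup.normalizer (Q : Set G) := (E.le_W inf_le_left).trans (le_normalizer_core s _)
  have h1 : piece s A k = ⁅Q, A ⊓ U k⁆ := E.symm.piece_eq hrs hs2
  have h2 : piece s A (z * k) = ⁅Q, A ⊓ U (z * k)⁆ := E.third.symm.piece_eq hrs hs2
  rw [h1, h2]
  set K := ⁅Q, A ⊓ U k⁆ ⊔ ⁅Q, A ⊓ U (z * k)⁆ with hK
  refine le_antisymm ?_ (sup_le (Subgroup.commutator_mono le_rfl inf_le_left)
    (Subgroup.commutator_mono le_rfl inf_le_left))
  have hn : ∀ X : Subgroup G, X ≤ A → A ≤ Subgroup.normalizer ((⁅Q, X⁆ : Subgroup G) : Set G) := fun X hX a ha => by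
    have h1 := hA ha
    have h2 : a ∈ Subgroup.normalizer (X : Set G) := mem_normalizer_of_conj_mem fun x hx => by
      rw [(E.comm a ha x (hX hx)).eq, mul_inv_cancel_right]; exact hx
    rw [Subgroup.mem_normalizer_iff_map_conj_eq] at h1 h2 ⊢
    rw [Subgroup.map_commutator, h1, h2]
  have hAK : A ≤ Subgroup.normalizer (K : Set G) := fun a ha => by
    have h1 := hn (A ⊓ U k) inf_le_left ha
    have h2 := hn (A ⊓ U (z * k)) inf_le_left ha
    rw [Subgroup.mem_normalizer_iff_map_conj_eq] at h1 h2 ⊢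
    rw [hK, Subgroup.map_sup, h1, h2]
  let L : Subgroup G :=
    { carrier := {g | g ∈ Subgroup.normalizer (K : Set G) ∧ ∀ q ∈ Q, ⁅q, g⁆ ∈ K}
      one_mem' := ⟨one_mem _, fun q _ => by simp⟩
      mul_mem' := fun {a b} ha hb => ⟨mul_mem ha.1 hb.1, fun q hq => by
        rw [show ⁅q, a * b⁆ = ⁅q, a⁆ * (a * ⁅q, b⁆ * a⁻¹) by simp only [commutatorElement_def]; group]
        exact mul_mem (ha.2 q hq) ((Subgroup.mem_normalizer_iff.1 ha.1 _).1 (hb.2 q hq))⟩
      inv_mem' := fun {a} ha => ⟨inv_mem ha.1, fun q hq => by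
        rw [show ⁅q, a⁻¹⁆ = a⁻¹ * ⁅q, a⁆⁻¹ * a⁻¹⁻¹ by simp only [commutatorElement_def]; group]
        exact (Subgroup.mem_normalizer_iff.1 (inv_mem ha.1) _).1 (inv_mem (ha.2 q hq))⟩ }
  have hL : A ≤ L := by
    refine E.le_sup.trans (sup_le (fun a ha => ⟨hAK ha.1, fun q hq => ?_⟩) (sup_le ?_ ?_))
    · have hc : a * q = q * a := Subgroup.mem_centralizer_iff.1 (W_le_centralizer _ (pCoreOf_le' s _ hq)) a ha
      rw [commutatorElement_def, ← hc, mul_inv_cancel_right, mul_inv_cancel]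
      exact one_mem _
    · exact fun a ha => ⟨hAK ha.1, fun q hq => Subgroup.mem_sup_left (Subgroup.commutator_mem_commutator hq ha)⟩
    · exact fun a ha => ⟨hAK ha.1, fun q hq => Subgroup.mem_sup_right (Subgroup.commutator_mem_commutator hq ha)⟩
  rw [Subgroup.commutator_le]
  exact fun q hq a ha => (hL ha).2 q hq

/-- The invariant `s`-subgroup built from the three pieces. -/
def big (s : ℕ) (A : Subgroup G) (z : G) : Subgroup G :=
  piece s A z ⊔ ⁅Cfsg.pCoreOf s (W (A ⊓ U z)), A⁆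

theorem big_eq (C : Core c r z S A) (hrs : r ≠ s) (hs2 : s ≠ 2) {k : G} (F : Frame z k)
    (hk : k ∈ (S : Subgroup G)) :
    big s A z = piece s A z ⊔ (piece s A k ⊔ piece s A (z * k)) := by
  rw [big, C.comm_eq hrs hs2 F hk]

theorem big_normalizer (C : Core c r z S A) (hrs : r ≠ s) (hs2 : s ≠ 2) {k : G} (F : Frame z k)
    (hk : k ∈ (S : Subgroup G)) {g : G} (hg : g ∈ Subgroup.normalizer (F.four : Set G)) :
    g ∈ Subgroup.normalizer (big s A z : Set G) := by
  have hgA := C.norm k hk F g hg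
  have hle : ∀ a ∈ F.four, a ≠ 1 → piece s A a ≤ big s A z := by
    intro a ha ha1
    rw [C.big_eq hrs hs2 F hk]
    rcases F.mem_four.1 ha with e | e | e | e
    · exact absurd e ha1
    · exact e ▸ le_sup_left
    · exact e ▸ le_trans le_sup_left le_sup_right
    · exact e ▸ le_trans le_sup_right le_sup_right
  have hmap : ∀ a ∈ F.four, a ≠ 1 →
      (piece s A a).map (MulAut.conj g).toMonoidHom ≤ big s A z := fun a ha ha1 =>
    (map_piece s A a hgA).trans (hle _ ((Subgroup.mem_normalizer_iff.1 hg a).1 ha)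
      (fun e => ha1 (conj_eq_one_iff.1 e)))
  refine mem_normalizer_of_conj_mem fun x hx => ?_
  have : (big s A z).map (MulAut.conj g).toMonoidHom ≤ big s A z := by
    conv_lhs => rw [C.big_eq hrs hs2 F hk]
    rw [Subgroup.map_sup, Subgroup.map_sup]
    exact sup_le (hmap z F.v_mem (ne_one_of_orderOf F.ov)) (sup_le (hmap k F.u_mem (ne_one_of_orderOf F.ou))
      (hmap _ (mul_mem F.v_mem F.u_mem) F.mul_ne_one))
  exact this ⟨x, hx, rfl⟩

theorem S_big (C : Core c r z S A) : (S : Subgroup G) ≤ Subgroup.normalizer (big s A z : Set G) := by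
  intro t ht
  refine mem_normalizer_of_conj_mem fun x hx => ?_
  have htA := C.nS ht
  have htz : t * z * t⁻¹ = z := by rw [← (C.hSz t ht).eq, mul_inv_cancel_right]
  have : (big s A z).map (MulAut.conj t).toMonoidHom ≤ big s A z := by
    rw [big, Subgroup.map_sup]
    refine sup_le_sup ?_ ?_
    · have := map_piece s A z htA
      rwa [htz] at this
    · rw [Subgroup.map_commutator, map_conj_eq_of_mem htA]
      refine Subgroup.commutator_mono ?_ le_rfl
      have h := map_core_le s (W (A ⊓ U z)) t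
      rwa [map_W, map_piece_inf_eq A z htA, htz] at h
  exact this ⟨x, hx, rfl⟩

theorem big_pgroup (C : Core c r z S A) (hrs : r ≠ s) (hs2 : s ≠ 2) {k : G} (F : Frame z k)
    (hk : k ∈ (S : Subgroup G)) : IsPGroup s (big s A z) := by
  have E := C.aframe F hk
  rw [C.big_eq hrs hs2 F hk]
  have hA : ∀ v : G, ∀ X, X ≤ A → A ≤ Subgroup.normalizer (Cfsg.pCoreOf s (W X) : Set G) :=
    fun _ X hX => (E.le_W hX).trans (le_normalizer_core s _)
  have hp : ∀ a, IsPGroup s (piece s A a) := fun a => (isPGroup_core s _).to_le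
    (Coprime.commutator_le_of_le_normalizer (inf_le_left.trans (hA a _ (B_le A a))))
  obtain ⟨hk1, hk2⟩ := C.piece_le hrs hs2 F hk
  refine (hp z).to_sup_of_normal_right' ((isPGroup_core s _).to_le (sup_le hk1 hk2)) ?_
  -- the first piece normalises the other two
  have n1 : piece s A z ≤ Subgroup.normalizer (piece s A k : Set G) := by
    rw [E.symm.third.piece_eq hrs hs2, E.third.piece_eq hrs hs2, F.comm.eq]
    exact (Coprime.commutator_le_of_le_normalizer (inf_le_left.trans (hA z _ inf_le_left))).trans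
      (Subgroup.normalizer_commutator_ge_left _ _)
  have n2 : piece s A z ≤ Subgroup.normalizer (piece s A (z * k) : Set G) := by
    rw [E.swap.piece_eq hrs hs2, E.piece_eq hrs hs2]
    exact (Coprime.commutator_le_of_le_normalizer (inf_le_left.trans (hA z _ inf_le_left))).trans
      (Subgroup.normalizer_commutator_ge_left _ _)
  intro g hg
  have h1 := n1 hg
  have h2 := n2 hg
  rw [Subgroup.mem_normalizer_iff_map_conj_eq] at h1 h2 ⊢
  rw [Subgroup.map_sup, h1, h2]

/-- `U z` normalises `⁅O_s(W_z), A⁆`. -/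
theorem U_comm (C : Core c r z S A) (hrs : r ≠ s) {k : G} (F : Frame z k) (hk : k ∈ (S : Subgroup G)) :
    U z ≤ Subgroup.normalizer ((⁅Cfsg.pCoreOf s (W (A ⊓ U z)), A⁆ : Subgroup G) : Set G) := by
  have E := C.aframe F hk
  set Wz := W (A ⊓ U z) with hWz
  set Q := Cfsg.pCoreOf s Wz with hQ
  set T := ⁅Q, A⁆ with hT
  have hWo : Odd (Nat.card Wz) := c.odd_W C.hz inf_le_right E.nev
  have hUW : U z ≤ Wz := le_W (c.odd_U C.hz) fun x hx y hy => c.comm_U C.hz hx hy.2
  have hAW : A ≤ Wz := E.le_W inf_le_left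
  obtain ⟨N, hN, hNn, j, hj⟩ := c.exists_ward F hWo (c.four_le_normalizer_W F inf_le_right)
  intro g hg
  refine CN.mem_of_prime_parts _ _ _ rfl fun q n hq hn => ?_
  haveI := Fact.mk hq
  set w := g ^ n with hw
  have hwU : w ∈ U z := pow_mem hg _
  obtain ⟨i, hi⟩ := CN.orderOf_pow_of_isPGroup_zpowers hn
  have hwQ : ∀ x ∈ Q, w * x * w⁻¹ ∈ Q := fun x hx =>
    (Subgroup.mem_normalizer_iff.1 (le_normalizer_core s Wz (hUW hwU)) x).1 hx
  by_cases hqr : q = r
  · subst hqr
    have hwA := C.rU w hwU i (by rw [← hi, pow_orderOf_eq_one])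
    have h1 : w ∈ Subgroup.normalizer (Q : Set G) := le_normalizer_core s Wz (hUW hwU)
    rw [Subgroup.mem_normalizer_iff_map_conj_eq] at h1 hwA ⊢
    rw [hT, Subgroup.map_commutator, h1, hwA]
  refine mem_normalizer_of_conj_mem fun t ht => ?_
  -- the elements acting trivially modulo `T`
  have hQT : Q ≤ Subgroup.normalizer (T : Set G) := Subgroup.normalizer_commutator_ge_left _ _
  have hAT : A ≤ Subgroup.normalizer (T : Set G) := Subgroup.normalizer_commutator_ge_right _ _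
  let M := Subgroup.normalizer (T : Set G) ⊓ Subgroup.normalizer (Q : Set G)
  let K : Subgroup G :=
    { carrier := {g | g ∈ M ∧ ∀ q ∈ Q, ⁅q, g⁆ ∈ T}
      one_mem' := ⟨one_mem _, fun q _ => by simp⟩
      mul_mem' := fun {a b} ha hb => ⟨mul_mem ha.1 hb.1, fun q hq => by
        rw [show ⁅q, a * b⁆ = ⁅q, a⁆ * (a * ⁅q, b⁆ * a⁻¹) by simp only [commutatorElement_def]; group]
        exact mul_mem (ha.2 q hq) ((Subgroup.mem_normalizer_iff.1 ha.1.1 _).1 (hb.2 q hq))⟩
      inv_mem' := fun {a} ha => ⟨inv_mem ha.1, fun q hq => by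
        rw [show ⁅q, a⁻¹⁆ = a⁻¹ * ⁅q, a⁆⁻¹ * a⁻¹⁻¹ by simp only [commutatorElement_def]; group]
        exact (Subgroup.mem_normalizer_iff.1 (inv_mem ha.1.1) _).1 (inv_mem (ha.2 q hq))⟩ }
  have hKM : K ≤ M := fun _ h => h.1
  have hKn : M ≤ Subgroup.normalizer (K : Set G) := fun m hm => mem_normalizer_of_conj_mem fun b hb =>
    ⟨mul_mem (mul_mem hm hb.1) (inv_mem hm), fun q hq => by
      rw [show ⁅q, m * b * m⁻¹⁆ = m * ⁅m⁻¹ * q * m⁻¹⁻¹, b⁆ * m⁻¹ by simp only [commutatorElement_def]; group]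
      exact (Subgroup.mem_normalizer_iff.1 hm.1 _).1
        (hb.2 _ ((Subgroup.mem_normalizer_iff.1 (inv_mem hm.2) q).1 hq))⟩
  have hAK : A ≤ K := fun a ha =>
    ⟨⟨hAT ha, le_normalizer_core s Wz (hAW ha)⟩, fun q hq => Subgroup.commutator_mem_commutator hq ha⟩
  have key : ∀ a ∈ A, w * a * w⁻¹ ∈ K := by
    intro a ha
    set m := w * a * w⁻¹ * a⁻¹ with hm
    have hmW : m ∈ Wz := mul_mem (mul_mem (mul_mem (hUW hwU) (hAW ha)) (inv_mem (hUW hwU))) (inv_mem (hAW ha))
    have hmN : (⟨m, hmW⟩ : Wz) ∈ N := by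
      haveI := hN
      haveI : Group.IsNilpotent (Wz ⧸ N) := by
        have := (Subgroup.isNilpotent_iff_lowerCentralSeries (⊤ : Subgroup (Wz ⧸ N))).2 ⟨j, by
          rw [← Subgroup.map_top_of_surjective (QuotientGroup.mk' N) (QuotientGroup.mk'_surjective N),
            ← Subgroup.map_lowerCentralSeries, eq_bot_iff]
          rintro _ ⟨x, hx, rfl⟩
          exact (QuotientGroup.eq_one_iff x).2 (hj hx)⟩
        exact Group.nilpotent_of_mulEquiv Subgroup.topEquiv
      obtain ⟨b, hb⟩ := C.pA ⟨a, ha⟩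
      have hao : orderOf a ∣ r ^ b := orderOf_dvd_of_pow_eq_one (congrArg Subtype.val hb)
      have hc := CN.commute_of_coprime_orders (H := (⊤ : Subgroup (Wz ⧸ N))) inferInstance
        (x := QuotientGroup.mk' N ⟨w, hUW hwU⟩) (y := QuotientGroup.mk' N ⟨a, hAW ha⟩) trivial trivial (by
          refine Nat.Coprime.coprime_dvd_left ((orderOf_map_dvd _ _).trans ?_)
            (Nat.Coprime.coprime_dvd_right ((orderOf_map_dvd _ _).trans ?_)
              (((Nat.coprime_primes hq Fact.out).2 hqr).pow i b))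
          · rw [← Subgroup.orderOf_coe]; exact dvd_of_eq hi
          · rw [← Subgroup.orderOf_coe]; exact hao)
      rw [← QuotientGroup.eq_one_iff]
      show QuotientGroup.mk' N (⟨w, hUW hwU⟩ * ⟨a, hAW ha⟩ * ⟨w, hUW hwU⟩⁻¹ * ⟨a, hAW ha⟩⁻¹) = 1
      rw [map_mul, map_mul, map_mul, map_inv, map_inv, hc]
      group
    have hmQ : m ∈ Subgroup.normalizer (Q : Set G) := le_normalizer_core s Wz hmW
    have hmT : m ∈ Subgroup.normalizer (T : Set G) := by
      refine CN.mem_of_prime_parts _ _ _ rfl fun p d hp hd => ?_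
      haveI := Fact.mk hp
      obtain ⟨b, hb⟩ := CN.orderOf_pow_of_isPGroup_zpowers hd
      by_cases hps : p = s
      · subst hps
        refine hQT ?_
        exact mem_core_of_nilpotent hN hNn (pow_mem hmN d) (k := b) (by
          show (m ^ d) ^ p ^ b = 1
          rw [← hb, pow_orderOf_eq_one])
      · refine Subgroup.centralizer_le_normalizer _ (Subgroup.centralizer_le
          (Coprime.commutator_le_of_le_normalizer (fun x hx => (hAK hx).1.2)) ?_)
        exact mem_centralizer_core hN hNn (pow_mem hmN d) (by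
          show (orderOf (m ^ d)).Coprime s
          rw [hb]
          exact ((Nat.coprime_primes hp Fact.out).2 hps).pow_left b)
    have hmM : m ∈ M := ⟨hmT, hmQ⟩
    obtain ⟨f, m0, hm0, hf⟩ := Nat.exists_eq_pow_mul_and_not_dvd (orderOf_pos m).ne' s (Fact.out : s.Prime).ne_one
    have h1 : m ^ s ^ f ∈ K := by
      refine ⟨pow_mem hmM _, fun x hx => ?_⟩
      have hcen : m ^ s ^ f ∈ Subgroup.centralizer (Q : Set G) :=
        mem_centralizer_core hN hNn (pow_mem hmN (s ^ f)) (by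
          show (orderOf (m ^ s ^ f)).Coprime s
          rw [orderOf_pow' m (pow_ne_zero f (Fact.out : s.Prime).ne_zero), hf,
            Nat.gcd_eq_right (dvd_mul_right _ _),
            Nat.mul_div_cancel_left m0 (pow_pos (Fact.out : s.Prime).pos f)]
          exact ((Fact.out : s.Prime).coprime_iff_not_dvd.2 hm0).symm)
      rw [commutatorElement_def, Subgroup.mem_centralizer_iff.1 hcen x hx, mul_inv_cancel_right, mul_inv_cancel]
      exact one_mem _
    obtain ⟨b, hb⟩ := C.pA ⟨a, ha⟩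
    have hbw : (m * a) ^ r ^ b = 1 := by
      rw [hm, inv_mul_cancel_right, conj_pow, show a ^ r ^ b = 1 from congrArg Subtype.val hb]; group
    haveI : (K.subgroupOf M).Normal := Subgroup.normal_subgroupOf_of_le_normalizer hKn
    set π := QuotientGroup.mk' (K.subgroupOf M)
    have hmem : m ∈ K := by
      have hb2 : (⟨m, hmM⟩ * ⟨a, (hAK ha).1⟩ : M) ^ r ^ b = 1 := Subtype.ext hbw
      have e1 : π ⟨m, hmM⟩ ^ s ^ f = 1 := by
        rw [← map_pow]; exact (QuotientGroup.eq_one_iff _).2 h1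
      have e2 : π ⟨m, hmM⟩ ^ r ^ b = 1 := by
        have e3 : π ⟨a, (hAK ha).1⟩ = 1 := (QuotientGroup.eq_one_iff _).2 (hAK ha)
        rw [show π ⟨m, hmM⟩ = π (⟨m, hmM⟩ * ⟨a, (hAK ha).1⟩) by rw [map_mul, e3, mul_one], ← map_pow, hb2, map_one]
      have e4 : π ⟨m, hmM⟩ = 1 := orderOf_eq_one_iff.1 (Nat.eq_one_of_dvd_coprimes
        (((Nat.coprime_primes (Fact.out : r.Prime) Fact.out).2 hrs).pow b f)
        (orderOf_dvd_of_pow_eq_one e2) (orderOf_dvd_of_pow_eq_one e1))
      exact (QuotientGroup.eq_one_iff (⟨m, hmM⟩ : M)).1 e4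
    have := mul_mem hmem (hAK ha)
    rwa [hm, inv_mul_cancel_right] at this
  have hconj : ∀ x ∈ Q, ∀ a ∈ A, w * ⁅x, a⁆ * w⁻¹ ∈ T := fun x hx a ha => by
    rw [show w * ⁅x, a⁆ * w⁻¹ = ⁅w * x * w⁻¹, w * a * w⁻¹⁆ by simp only [commutatorElement_def]; group]
    exact (key a ha).2 _ (hwQ x hx)
  have : T.map (MulAut.conj w).toMonoidHom ≤ T := by
    rw [Subgroup.map_le_iff_le_comap, hT, Subgroup.commutator_le]
    exact hconj
  exact this ⟨t, ht, rfl⟩

/-- `U z` normalises the piece at `z`. -/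
theorem U_piece (C : Core c r z S A) (hrs : r ≠ s) (hs2 : s ≠ 2) {k : G} (F : Frame z k)
    (hk : k ∈ (S : Subgroup G)) (hD : big s A z ≠ ⊥) :
    U z ≤ Subgroup.normalizer (piece s A z : Set G) := by
  have E := C.aframe F hk
  set D := big s A z with hDdef
  set Z := D ⊓ Subgroup.centralizer (D : Set G) with hZ
  have hDp : IsPGroup s D := C.big_pgroup hrs hs2 F hk
  have hZp : IsPGroup s Z := hDp.to_le inf_le_left
  have hnZ : ∀ g ∈ Subgroup.normalizer (D : Set G), g ∈ Subgroup.normalizer (Z : Set G) := fun g hg => by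
    have h2 : g ∈ Subgroup.normalizer (Subgroup.centralizer (D : Set G) : Set G) := by
      refine mem_normalizer_of_conj_mem fun d hd => Subgroup.mem_centralizer_iff.2 fun y hy => ?_
      have h2 := (Subgroup.mem_normalizer_iff.1 (inv_mem hg) y).1 hy
      have h3 : g⁻¹ * y * g⁻¹⁻¹ * d = d * (g⁻¹ * y * g⁻¹⁻¹) := Subgroup.mem_centralizer_iff.1 hd _ h2
      calc y * (g * d * g⁻¹) = g * ((g⁻¹ * y * g⁻¹⁻¹) * d) * g⁻¹ := by group
        _ = g * (d * (g⁻¹ * y * g⁻¹⁻¹)) * g⁻¹ := by rw [h3]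
        _ = g * d * g⁻¹ * y := by group
    rw [Subgroup.mem_normalizer_iff_map_conj_eq] at hg h2 ⊢
    rw [hZ, Subgroup.map_inf _ _ _ (MulAut.conj g).injective, hg, h2]
  have hAD : A ≤ Subgroup.normalizer (D : Set G) := fun a ha => by
    have h1 : a ∈ Subgroup.normalizer (piece s A z : Set G) := by
      have e1 : a ∈ Subgroup.normalizer (Cfsg.pCoreOf s (W (B A z)) : Set G) :=
        le_normalizer_core s _ (E.le_W (B_le A z) ha)
      have e2 : a ∈ Subgroup.normalizer ((A ⊓ U z : Subgroup G) : Set G) := mem_normalizer_of_conj_mem fun x hx => by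
        rw [(E.comm a ha x hx.1).eq, mul_inv_cancel_right]; exact hx
      rw [Subgroup.mem_normalizer_iff_map_conj_eq] at e1 e2 ⊢
      rw [piece, Subgroup.map_commutator, e1, e2]
    have h2 : a ∈ Subgroup.normalizer ((⁅Cfsg.pCoreOf s (W (A ⊓ U z)), A⁆ : Subgroup G) : Set G) :=
      Subgroup.normalizer_commutator_ge_right _ _ ha
    rw [Subgroup.mem_normalizer_iff_map_conj_eq] at h1 h2 ⊢
    rw [hDdef, big, Subgroup.map_sup, h1, h2]
  have hAZ : A ≤ Subgroup.normalizer (Z : Set G) := fun a ha => hnZ a (hAD ha)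
  have hfZ : F.four ≤ Subgroup.normalizer (Z : Set G) := fun g hg =>
    hnZ g (C.S_big (F.four_le C.z_mem hk hg))
  have hZne : Z ≠ ⊥ := by
    haveI : Nontrivial D := (Subgroup.nontrivial_iff_ne_bot _).2 hD
    haveI := hDp.center_nontrivial
    obtain ⟨⟨d, hd⟩, hd1⟩ := exists_ne (1 : Subgroup.center D)
    refine ne_bot_of_mem (x := (d : G)) ⟨d.2, Subgroup.mem_centralizer_iff.2 fun y hy => ?_⟩
      fun e => hd1 (Subtype.ext (Subtype.ext e))
    exact congrArg Subtype.val (Subgroup.mem_center_iff.1 hd ⟨y, hy⟩)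
  have hZo : Odd (Nat.card Z) := odd_of_isPGroup hs2 hZp
  have hAo := odd_of_isPGroup C.hr2 C.pA
  set Ax := A ⊓ U k with hAx
  set Ax' := A ⊓ U (z * k) with hAx'
  set Cz := Z ⊓ Subgroup.centralizer (Ax' : Set G) with hCz
  -- the part of `Z` centralised by `A ∩ U (z k)` meets `U z`
  have hB : Cz ⊓ U z ≠ ⊥ := by
    intro hbot
    have hinv : ∀ d ∈ Cz, z * d * z⁻¹ = d⁻¹ := by
      refine inverts_of_fpf (odd_of_le hZo inf_le_left) (mul_self_of_orderOf C.hz) ?_ fun d hd hc => ?_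
      · refine mem_normalizer_of_conj_mem fun d hd => ⟨(Subgroup.mem_normalizer_iff.1 (hfZ F.v_mem) d).1 hd.1,
          Subgroup.mem_centralizer_iff.2 fun y hy => ?_⟩
        have hy2 := c.inverts E.third.symm.frame (hy : y ∈ Ax').2
        have h3 : y⁻¹ * d = d * y⁻¹ := Subgroup.mem_centralizer_iff.1 hd.2 _ (inv_mem hy)
        calc y * (z * d * z⁻¹) = z * ((z⁻¹ * y * z) * d) * z⁻¹ := by group
          _ = z * (y⁻¹ * d) * z⁻¹ := by
            rw [show z⁻¹ * y * z = z * y * z⁻¹ by rw [inv_of_orderOf C.hz], hy2]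
          _ = z * (d * y⁻¹) * z⁻¹ := by rw [h3]
          _ = z * d * z⁻¹ * (z * y⁻¹ * z⁻¹) := by group
          _ = z * d * z⁻¹ * y := by
            rw [show z * y⁻¹ * z⁻¹ = (z * y * z⁻¹)⁻¹ by group, hy2, inv_inv]
      · have : d ∈ Cz ⊓ U z := ⟨hd, (c.mem_U C.hz).2 ⟨hc, odd_orderOf_of_mem hZo hd.1⟩⟩
        rwa [hbot, Subgroup.mem_bot] at this
    -- hence `A ∩ U k` centralises `Cz`
    have hxC : ∀ a ∈ Ax, ∀ d ∈ Cz, Commute a d := by
      intro a ha d hd
      have hdn : a * d * a⁻¹ ∈ Cz := ⟨(Subgroup.mem_normalizer_iff.1 (hAZ ha.1) d).1 hd.1,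
        Subgroup.mem_centralizer_iff.2 fun y hy => by
          have h3 : y * d = d * y := Subgroup.mem_centralizer_iff.1 hd.2 y hy
          have h4 := (E.comm a ha.1 y (hy : y ∈ Ax').1).eq
          calc y * (a * d * a⁻¹) = (y * a) * d * a⁻¹ := by group
            _ = a * (y * d) * a⁻¹ := by rw [← h4]; group
            _ = a * (d * y) * a⁻¹ := by rw [h3]
            _ = a * d * a⁻¹ * y := by
              rw [show a * (d * y) * a⁻¹ = a * d * (y * a⁻¹) by group,
                (E.comm y (hy : y ∈ Ax').1 a⁻¹ (inv_mem ha.1)).eq]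
              group⟩
      have h1 := hinv _ hdn
      have haz : z * a * z⁻¹ = a⁻¹ := c.inverts E.symm.frame ha.2
      have h2 : z * (a * d * a⁻¹) * z⁻¹ = a⁻¹ * d⁻¹ * a := by
        rw [show z * (a * d * a⁻¹) * z⁻¹ = (z * a * z⁻¹) * (z * d * z⁻¹) * (z * a * z⁻¹)⁻¹ by group, haz, hinv d hd]
        group
      rw [h2] at h1
      have h3 : a⁻¹ * d * a = a * d * a⁻¹ := by
        have := congrArg (·⁻¹) h1
        simpa [mul_inv_rev, mul_assoc] using this
      have h4 : Commute (a * a) d := by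
        show a * a * d = d * (a * a)
        calc a * a * d = a * (a * d * a⁻¹) * a := by group
          _ = a * (a⁻¹ * d * a) * a := by rw [h3]
          _ = d * (a * a) := by group
      have h5 : a ∈ Subgroup.centralizer ({d} : Set G) := mem_of_sq_mem (odd_orderOf_of_mem hAo ha.1)
        (Subgroup.mem_centralizer_singleton_iff.2 h4.eq)
      exact Subgroup.mem_centralizer_singleton_iff.1 h5
    -- so `A ∩ U k` centralises `Z`
    have hxZ : Z ≤ Subgroup.centralizer (Ax : Set G) := by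
      have hcop : (Nat.card Ax').Coprime (Nat.card Z) := by
        obtain ⟨e1, he1⟩ := hZp.exists_card_eq
        obtain ⟨e2, he2⟩ := (C.pA.to_le (inf_le_left : Ax' ≤ A)).exists_card_eq
        rw [he1, he2]
        exact ((Nat.coprime_primes Fact.out Fact.out).2 hrs).pow e2 e1
      refine (Coprime.eq_commutator_sup_centralizer (inf_le_left.trans hAZ) hcop
        (Or.inr (Coprime.isSolvable_of_isPGroup hZp))).ge.trans ?_
      refine sup_le (E.swap.sector' hrs hs2 hZp ?_ (inf_le_left.trans hAZ) (inf_le_left.trans hAZ))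
        fun d hd => Subgroup.mem_centralizer_iff.2 fun a ha => (hxC a ha d hd).eq
      exact E.frame.four_swap.symm ▸ hfZ
    -- so all of `A` does
    obtain ⟨h1, h2, h3⟩ := c.members F (p := fun a => Z ≤ Subgroup.centralizer ((A ⊓ U a : Subgroup G) : Set G))
      (fun g hg a ha => fun d hd => Subgroup.mem_centralizer_iff.2 fun y hy => by
        have hgA := C.norm k hk F g hg
        have hgZ := hnZ g (C.big_normalizer hrs hs2 F hk hg)
        rw [← map_piece_inf_eq A a hgA] at hy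
        obtain ⟨y0, hy0, rfl⟩ := hy
        have hd0 := (Subgroup.mem_normalizer_iff.1 (inv_mem hgZ) d).1 hd
        have h := Subgroup.mem_centralizer_iff.1 (ha hd0) y0 hy0
        simp only [MulEquiv.coe_toMonoidHom, MulAut.conj_apply]
        calc g * y0 * g⁻¹ * d = g * (y0 * (g⁻¹ * d * g⁻¹⁻¹)) * g⁻¹ := by group
          _ = g * ((g⁻¹ * d * g⁻¹⁻¹) * y0) * g⁻¹ := by rw [h]
          _ = d * (g * y0 * g⁻¹) := by group)
      (Or.inr (Or.inl hxZ))
    have hZA : ∀ d ∈ Z, d ∈ Subgroup.centralizer (A : Set G) := by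
      intro d hd
      have hle : A ≤ Subgroup.centralizer ({d} : Set G) := by
        refine E.le_sup.trans (sup_le ?_ (sup_le ?_ ?_))
        all_goals intro a ha
        · exact Subgroup.mem_centralizer_singleton_iff.2 (Subgroup.mem_centralizer_iff.1 (h1 hd) a ha)
        · exact Subgroup.mem_centralizer_singleton_iff.2 (Subgroup.mem_centralizer_iff.1 (h2 hd) a ha)
        · exact Subgroup.mem_centralizer_singleton_iff.2 (Subgroup.mem_centralizer_iff.1 (h3 hd) a ha)
      exact Subgroup.mem_centralizer_iff.2 fun a ha => Subgroup.mem_centralizer_singleton_iff.1 (hle ha)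
    have hpz : Z ⊓ U z ≠ ⊥ := (c.members F (p := fun a => Z ⊓ U a ≠ ⊥) (fun g hg a ha e => ha (by
      refine (Subgroup.eq_bot_iff_forall _).2 fun d hd => ?_
      have : g * d * g⁻¹ ∈ Z ⊓ U (g * a * g⁻¹) :=
        ⟨(Subgroup.mem_normalizer_iff.1 (hnZ g (C.big_normalizer hrs hs2 F hk hg)) d).1 hd.1, conj_mem_U g hd.2⟩
      rw [e, Subgroup.mem_bot] at this
      exact conj_eq_one_iff.1 this)) (c.exists_piece F hZo hfZ hZne)).1
    obtain ⟨d, hd, hd1⟩ := exists_mem_ne_one hpz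
    have : d ∈ Cz ⊓ U z := ⟨⟨hd.1, Subgroup.centralizer_le inf_le_left (hZA d hd.1)⟩, hd.2⟩
    rw [hbot, Subgroup.mem_bot] at this
    exact hd1 this
  set Bz := Cz ⊓ U z with hBz
  have hBU : Bz ≤ U z := inf_le_right
  have hWo : Odd (Nat.card (W Bz)) := c.odd_W C.hz hBU hB
  have hWn := c.four_le_normalizer_W F hBU
  set QB := Cfsg.pCoreOf s (W Bz) with hQB
  have hzQ : A ⊓ U z ≤ W Bz := le_W (odd_of_le hAo inf_le_left) fun a ha b hb => c.comm_U C.hz ha.2 hb.2
  have hxQ : Ax' ≤ W Bz := le_W (odd_of_le hAo inf_le_left) fun a ha b hb =>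
    Subgroup.mem_centralizer_iff.1 hb.1.2 a ha
  -- the piece as a commutator with `O_s (W Bz)`
  have hle : piece s A z ≤ ⁅QB, A ⊓ U z⁆ := by
    have hTp : IsPGroup s (piece s A z) := hDp.to_le le_sup_left
    have hTW : piece s A z ≤ W Bz := le_W (odd_of_isPGroup hs2 hTp) fun t ht b hb =>
      Subgroup.mem_centralizer_iff.1 hb.1.1.2 t (le_sup_left (a := piece s A z) ht)
    have hT2 : piece s A z ≤ ⁅piece s A z, A ⊓ U z⁆ := E.commutator_self hrs (isPGroup_core s _)
      ((inf_le_left.trans (E.le_W (B_le A z))).trans (le_normalizer_core s _))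
    exact hT2.trans (Subgroup.commutator_mono (c.le_core_of_commutator F hWo hWn hTW hTp hzQ hT2) le_rfl)
  have hge : ⁅QB, A ⊓ U z⁆ ≤ piece s A z := by
    rw [E.third.piece_eq hrs hs2]
    exact E.third.push hrs hs2 (isPGroup_core s _)
      ((F.four_third.symm ▸ hWn).trans (normalizer_le_normalizer_core s _))
      (hzQ.trans (le_normalizer_core s _)) (hxQ.trans (le_normalizer_core s _))
  intro g hg
  have h1 : g ∈ Subgroup.normalizer (QB : Set G) :=
    normalizer_le_normalizer_core s _ (Subgroup.le_normalizer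
      (le_W (c.odd_U C.hz) (fun a ha b hb => c.comm_U C.hz ha (hBU hb)) hg))
  have h2 : g ∈ Subgroup.normalizer ((A ⊓ U z : Subgroup G) : Set G) :=
    c.normalizes C.hz inf_le_right (c.commute_U C.hz hg)
  rw [le_antisymm hle hge]
  rw [Subgroup.mem_normalizer_iff_map_conj_eq] at h1 h2 ⊢
  rw [Subgroup.map_commutator, h1, h2]

end Core

/-- A non-trivial odd subgroup whose normaliser contains `C(z)` and the normalisers of all frames at
`z` in a Sylow subgroup centralising `z`: impossible. -/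
theorem Ctx.no_invariant (c : Ctx G) {S : Sylow 2 G} (hz : orderOf z = 2)
    (hSz : ∀ s ∈ (S : Subgroup G), Commute z s) {x : G} (hx : x ∈ (S : Subgroup G)) (F : Frame z x)
    {D : Subgroup G} (hD : D ≠ ⊥) (hDo : Odd (Nat.card D))
    (hS : (S : Subgroup G) ≤ Subgroup.normalizer (D : Set G)) (hU : U z ≤ Subgroup.normalizer (D : Set G))
    (hN : ∀ k ∈ (S : Subgroup G), ∀ F : Frame z k, ∀ g ∈ Subgroup.normalizer (F.four : Set G),
      g ∈ Subgroup.normalizer (D : Set G)) : False := by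
  haveI : Fact (Nat.Prime 2) := ⟨Nat.prime_two⟩
  set K := Subgroup.normalizer (D : Set G) with hK
  have hle : ∀ L : Subgroup G, L.Normal → Odd (Nat.card L) → L = ⊥ := fun L hL ho =>
    le_bot_iff.1 (c.core ▸ le_sSup (show L ∈ {N : Subgroup G | N.Normal ∧ (Nat.card N).Coprime 2} from
      ⟨hL, Nat.coprime_two_right.2 ho⟩))
  have hKtop : K ≠ ⊤ := fun e => hD (hle D (Subgroup.normalizer_eq_top_iff.1 e) hDo)
  have hzS : z ∈ (S : Subgroup G) :=
    c.two_mem hz hSz (c.mem z hz) (k := 1) (by rw [pow_one, pow_two, mul_self_of_orderOf hz])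
  have hzK : z ∈ K := hS hzS
  have heven : Even (Nat.card K) := by
    rw [even_iff_two_dvd, ← hz]; exact K.orderOf_dvd_natCard hzK
  have hC : Subgroup.centralizer ({z} : Set G) ≤ K := (c.centralizer_le F hSz hx).trans (sup_le hU hS)
  have hfus : ∀ t ∈ K, orderOf t = 2 → ∃ h ∈ K, h * t * h⁻¹ = z := by
    intro t ht ht2
    let S' : Sylow 2 K := S.subtype hS
    obtain ⟨T, hT⟩ := (zpowers_isPGroup (r := 2) (x := (⟨t, ht⟩ : K)) (k := 1)
      (Subtype.ext (by
        show t ^ 2 ^ 1 = 1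
        rw [pow_one, pow_two, mul_self_of_orderOf ht2]))).exists_le_sylow
    obtain ⟨h, hh⟩ := MulAction.exists_smul_eq K T S'
    have h1 : h * ⟨t, ht⟩ * h⁻¹ ∈ (S' : Subgroup K) := by
      rw [← hh, Sylow.coe_subgroup_smul, Subgroup.mem_pointwise_smul_iff_inv_smul_mem]
      simp only [MulAut.smul_def, MulAut.conj_inv_apply]
      rw [show h⁻¹ * (h * ⟨t, ht⟩ * h⁻¹) * h = ⟨t, ht⟩ by group]
      exact hT (Subgroup.mem_zpowers _)
    have h2 : (h : G) * t * (h : G)⁻¹ ∈ (S : Subgroup G) := h1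
    by_cases hz' : (h : G) * t * (h : G)⁻¹ = z
    · exact ⟨h, h.2, hz'⟩
    have F' : Frame z ((h : G) * t * (h : G)⁻¹) :=
      ⟨hz, ((MulAut.conj (h : G)).orderOf_eq t).trans ht2, Ne.symm hz', hSz _ h2⟩
    obtain ⟨n, hn, hnk⟩ := c.exists_mover F'
    refine ⟨n * h, mul_mem (hN _ h2 F' n hn) h.2, ?_⟩
    rw [← hnk]; group
  have hcen : ∀ t ∈ K, orderOf t = 2 → Subgroup.centralizer ({t} : Set G) ≤ K := by
    intro t ht ht2 g hg
    obtain ⟨h, hh, e⟩ := hfus t ht ht2
    have h1 : h * g * h⁻¹ ∈ Subgroup.centralizer ({z} : Set G) := by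
      refine Subgroup.mem_centralizer_singleton_iff.2 ?_
      have := Subgroup.mem_centralizer_singleton_iff.1 hg
      rw [← e]
      calc h * g * h⁻¹ * (h * t * h⁻¹) = h * (g * t) * h⁻¹ := by group
        _ = h * (t * g) * h⁻¹ := by rw [this]
        _ = h * t * h⁻¹ * (h * g * h⁻¹) := by group
    have := mul_mem (mul_mem (inv_mem hh) (hC h1)) hh
    rwa [show h⁻¹ * (h * g * h⁻¹) * h = g by group] at this
  have hSE : Cfsg.IsStronglyEmbedded K :=
    (Cfsg.Agent.S0223.result K hKtop heven).2 ⟨hcen, fun t ht q hq ht2 hq2 _ => by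
      obtain ⟨a, ha, ea⟩ := hfus t ht ht2
      obtain ⟨b, hb, eb⟩ := hfus q hq hq2
      refine ⟨b⁻¹ * a, mul_mem (inv_mem hb) ha, ?_⟩
      rw [show b⁻¹ * a * t * (b⁻¹ * a)⁻¹ = b⁻¹ * (a * t * a⁻¹) * b by group, ea, ← eb]
      group⟩
  have h := Cfsg.Agent.S1221.result K hSE
  rw [c.core, le_bot_iff] at h
  refine hD ?_
  rw [← le_bot_iff, ← h]
  intro d hd
  refine ⟨⟨d, Subgroup.le_normalizer hd⟩, le_sSup (show D.subgroupOf K ∈
      {N : Subgroup K | N.Normal ∧ (Nat.card N).Coprime 2} from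
    ⟨Subgroup.normal_subgroupOf_of_le_normalizer le_rfl, ?_⟩) hd, rfl⟩
  rw [Nat.card_congr (Subgroup.subgroupOfEquivOfLe Subgroup.le_normalizer).toEquiv]
  exact Nat.coprime_two_right.2 hDo

/-- Where all the cores are centralised by `A`, the odd group `W1` normalises `A`. -/
theorem MaxConf.W1_le {c : Ctx G} {S : Sylow 2 G} {P A : Subgroup G} [Fact r.Prime]
    (T : MaxConf c r z S P) (C : Core c r z S A) (hAP : A ≤ P)
    (hNP : Subgroup.normalizer (P : Set G) ≤ Subgroup.normalizer (A : Set G))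
    (h : ∀ s : ℕ, ∀ _ : Fact s.Prime, s ≠ r → ⁅Cfsg.pCoreOf s (W (A ⊓ U z)), A⁆ = ⊥) :
    MaxConf.W1 z P ≤ Subgroup.normalizer (A : Set G) := by
  obtain ⟨x, hx, F, hPx⟩ := T.frame
  have E := C.aframe F hx
  set W1 := MaxConf.W1 z P with hW1
  have hWo := T.odd_W1
  have hWn : F.four ≤ Subgroup.normalizer (W1 : Set G) := c.four_le_normalizer_W F inf_le_right
  obtain ⟨N, hN, hNn, j, hj⟩ := c.exists_ward F hWo hWn
  have hAW : A ≤ W1 := hAP.trans T.le_W1
  -- the nilpotent part normalises `A`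
  have hNA : ∀ y ∈ N, (y : G) ∈ Subgroup.normalizer (A : Set G) := by
    intro y hy
    refine CN.mem_of_prime_parts _ _ _ rfl fun q n hq hn => ?_
    haveI := Fact.mk hq
    obtain ⟨i, hi⟩ := CN.orderOf_pow_of_isPGroup_zpowers hn
    have hmem : ((y ^ n : W1) : G) ∈ Cfsg.pCoreOf q W1 := mem_core_of_nilpotent hN hNn (pow_mem hy n) (k := i) (by
      rw [Subgroup.coe_pow, ← hi, pow_orderOf_eq_one])
    rw [Subgroup.coe_pow] at hmem
    by_cases hqr : q = r
    · subst hqr
      exact hNP (Subgroup.le_normalizer (T.inv_le F hx (pCoreOf_le' q W1) (isPGroup_core q W1)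
        (hWn.trans (normalizer_le_normalizer_core q W1)) hmem))
    by_cases hq2 : q = 2
    · subst hq2
      have h1 := eq_one_of_dvd_two (isPGroup_core 2 W1) hWo hmem (pCoreOf_le' 2 W1 hmem)
      rw [h1]; exact one_mem _
    set Q1 := Cfsg.pCoreOf q W1 with hQ1
    have hQn : F.four ≤ Subgroup.normalizer (Q1 : Set G) := hWn.trans (normalizer_le_normalizer_core q W1)
    have hAQ : A ≤ Subgroup.normalizer (Q1 : Set G) := hAW.trans (le_normalizer_core q W1)
    have hall : ∀ a ∈ F.four, a ≠ 1 → ⁅Cfsg.pCoreOf q (W (A ⊓ U a)), A⁆ = ⊥ := by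
      have hm := c.members F (p := fun a => ⁅Cfsg.pCoreOf q (W (A ⊓ U a)), A⁆ = ⊥) (fun g hg a ha => by
        have hgA := C.norm x hx F g hg
        have h' : (⁅Cfsg.pCoreOf q (W (A ⊓ U a)), A⁆).map (MulAut.conj g).toMonoidHom = ⊥ := by
          rw [ha, Subgroup.map_bot]
        rw [Subgroup.map_commutator, map_conj_eq_of_mem hgA] at h'
        rw [eq_bot_iff, ← h']
        refine Subgroup.commutator_mono ?_ le_rfl
        have h2 := map_core_le q (W (A ⊓ U (g * a * g⁻¹))) g⁻¹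
        rw [map_W, map_piece_inf_eq A _ (inv_mem hgA),
          show g⁻¹ * (g * a * g⁻¹) * g⁻¹⁻¹ = a by group] at h2
        intro d hd
        exact ⟨g⁻¹ * d * g⁻¹⁻¹, h2 ⟨d, hd, rfl⟩, by simp [mul_assoc]⟩)
        (Or.inl (h q inferInstance hqr))
      intro a ha ha1
      rcases F.mem_four.1 ha with e | e | e | e
      · exact absurd e ha1
      · exact e ▸ hm.1
      · exact e ▸ hm.2.1
      · exact e ▸ hm.2.2
    have key : ∀ a b : G, AFrame c r A a b → a ∈ F.four → b ∈ F.four →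
        ∀ E' : Frame a b, E'.four ≤ Subgroup.normalizer (Q1 : Set G) →
        A ⊓ U a ≤ Subgroup.centralizer (Q1 : Set G) := by
      intro a b E' _ hb Fab hn'
      rw [Subgroup.le_centralizer_iff, ← Subgroup.commutator_eq_bot_iff_le_centralizer, eq_bot_iff]
      refine (E'.push (Ne.symm hqr) hq2 (isPGroup_core q W1) hn' (inf_le_left.trans hAQ) (inf_le_left.trans hAQ)).trans ?_
      refine le_trans (Subgroup.commutator_mono le_rfl inf_le_left) (hall b hb (ne_one_of_orderOf Fab.ou)).le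
    have hA1 : A ≤ Subgroup.centralizer (Q1 : Set G) :=
      E.le_sup.trans (sup_le (key z x E F.v_mem F.u_mem F hQn) (sup_le
        (key x z E.symm F.u_mem F.v_mem F.symm (F.four_symm.symm ▸ hQn))
        (key (z * x) x E.swap (mul_mem F.v_mem F.u_mem) F.u_mem F.swap (F.four_swap.symm ▸ hQn))))
    exact Subgroup.centralizer_le_normalizer _ (Subgroup.le_centralizer_iff.1 hA1 hmem)
  -- Frattini
  haveI := hN
  haveI : Group.IsNilpotent (W1 ⧸ N) := by
    have := (Subgroup.isNilpotent_iff_lowerCentralSeries (⊤ : Subgroup (W1 ⧸ N))).2 ⟨j, by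
      rw [← Subgroup.map_top_of_surjective (QuotientGroup.mk' N) (QuotientGroup.mk'_surjective N),
        ← Subgroup.map_lowerCentralSeries, eq_bot_iff]
      rintro _ ⟨y, hy, rfl⟩
      exact (QuotientGroup.eq_one_iff y).2 (hj hy)⟩
    exact Group.nilpotent_of_mulEquiv Subgroup.topEquiv
  obtain ⟨Q, hQ, hQu⟩ := exists_inv_sylow F hWo (hWn F.v_mem) (hWn F.u_mem) (c.fpf F hWo) r
  have hQP : (Q : Subgroup W1).map W1.subtype = P := le_antisymm
    (T.inv_le F hx (Subgroup.map_subtype_le _) (Q.2.map _) hQ)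
    (hQu P T.le_W1 T.pg (T.four_le F hx))
  set M := (Q : Subgroup W1) ⊔ N with hM
  haveI : ((Q.mapSurjective (QuotientGroup.mk'_surjective N) : Sylow r (W1 ⧸ N)) : Subgroup (W1 ⧸ N)).Normal :=
    inferInstance
  haveI hMn : M.Normal := by
    have hMe : M = ((Q.mapSurjective (QuotientGroup.mk'_surjective N) : Sylow r (W1 ⧸ N)) :
        Subgroup (W1 ⧸ N)).comap (QuotientGroup.mk' N) := by
      rw [Sylow.coe_mapSurjective, Subgroup.comap_map_eq, QuotientGroup.ker_mk']
    rw [hMe]; infer_instance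
  have htop := Sylow.normalizer_sup_eq_top' (N := M) Q le_sup_left
  intro g hg
  have hall : (⊤ : Subgroup W1) ≤ (Subgroup.normalizer (A : Set G)).comap W1.subtype := by
    rw [← htop]
    refine sup_le ?_ (sup_le ?_ fun y hy => hNA y hy)
    · intro y hy
      refine hNP (mem_normalizer_of_conj_mem fun p hp => ?_)
      rw [← hQP] at hp ⊢
      obtain ⟨p0, hp0, rfl⟩ := hp
      exact ⟨y * p0 * y⁻¹, (Subgroup.mem_normalizer_iff.1 hy p0).1 hp0, rfl⟩
    · intro y hy
      exact hNP (Subgroup.le_normalizer (hQP ▸ ⟨y, hy, rfl⟩))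
  exact hall (Subgroup.mem_top (⟨g, hg⟩ : W1))
where
  /-- A 2-element of a group of odd order is trivial. -/
  eq_one_of_dvd_two {K Q : Subgroup G} (hQ : IsPGroup 2 Q) (hK : Odd (Nat.card K)) {y : G} (hy : y ∈ Q)
      (hyK : y ∈ K) : y = 1 := by
    obtain ⟨i, hi⟩ := hQ ⟨y, hy⟩
    exact orderOf_eq_one_iff.1 (Nat.eq_one_of_dvd_coprimes ((Nat.coprime_two_left.2 hK).pow_left i)
      (orderOf_dvd_of_pow_eq_one (congrArg Subtype.val hi)) (K.orderOf_dvd_natCard hyK))

/-- The normaliser of a non-trivial subgroup of `U v` lies in `C(v)`. -/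
theorem Ctx.normalizer_le (c : Ctx G) (S0 : Sylow 2 G) {m : ℕ} (hm : 2 ≤ m)
    (e0 : (S0 : Subgroup G) ≃* DihedralGroup m) {v : G} (hv : orderOf v = 2) {Y : Subgroup G}
    (hY : Y ≤ U v) (hne : Y ≠ ⊥) :
    Subgroup.normalizer (Y : Set G) ≤ Subgroup.centralizer ({v} : Set G) := by
  classical
  have hW : ∀ w ∈ W Y, Commute v w := by
    by_contra hbad
    obtain ⟨r, _, z, S, P, T⟩ := exists_top c hv hY hne hbad
    obtain ⟨A, hAP, hAne, hAc, hNP, hnorm⟩ := T.exists_abelian S0 hm e0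
    obtain ⟨x, hx, F, -⟩ := T.frame
    have C : Core c r z S A := ⟨T.hr2, T.hz, T.hSz, ⟨x, hx, F⟩, T.pg.to_le hAP, hAc, hAne,
      T.le_normalizer.trans hNP, hnorm, fun a ha k hk => hNP (Subgroup.le_normalizer (T.mem_of_pow ha hk))⟩
    by_cases h : ∀ s : ℕ, ∀ _ : Fact s.Prime, s ≠ r → ⁅Cfsg.pCoreOf s (W (A ⊓ U z)), A⁆ = ⊥
    · have hW1 := T.W1_le C hAP hNP h
      refine c.no_invariant T.hz T.hSz hx F hAne (odd_of_isPGroup T.hr2 C.pA) C.nS ?_ hnorm
      exact le_trans (le_W (Y := P ⊓ Subgroup.centralizer (P : Set G) ⊓ U z) (c.odd_U T.hz) fun a ha b hb => c.comm_U T.hz ha hb.2) hW1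
    · push Not at h
      obtain ⟨s, _, hsr, hD⟩ := h
      have E := C.aframe F hx
      have hs2 : s ≠ 2 := by
        rintro rfl
        apply hD
        have hbot : Cfsg.pCoreOf 2 (W (A ⊓ U z)) = ⊥ := (Subgroup.eq_bot_iff_forall _).2 fun y hy =>
          MaxConf.W1_le.eq_one_of_dvd_two (isPGroup_core 2 _) (c.odd_W T.hz inf_le_right E.nev) hy
            (pCoreOf_le' 2 _ hy)
        rw [hbot, Subgroup.commutator_bot_left]
      have hD' : Core.big s A z ≠ ⊥ := fun e => hD (le_bot_iff.1 (e ▸ le_sup_right))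
      have hrs : r ≠ s := Ne.symm hsr
      refine c.no_invariant T.hz T.hSz hx F hD' (odd_of_isPGroup hs2 (C.big_pgroup hrs hs2 F hx))
        C.S_big (fun g hg => ?_) fun k hk F' g hg => C.big_normalizer hrs hs2 F' hk hg
      have h1 := C.U_piece hrs hs2 F hx hD' hg
      have h2 := C.U_comm hrs F hx hg
      rw [Subgroup.mem_normalizer_iff_map_conj_eq] at h1 h2 ⊢
      rw [Core.big, Subgroup.map_sup, h1, h2]
  intro n hn
  obtain ⟨-, -, hdec⟩ := c.W_spec hv hY hne
  have hvC : v ∈ Subgroup.centralizer (Y : Set G) :=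
    Subgroup.mem_centralizer_iff.2 fun y hy => (c.commute_U hv (hY hy)).eq.symm
  have hnv : n * v * n⁻¹ ∈ Subgroup.centralizer (Y : Set G) := Subgroup.mem_centralizer_iff.2 fun y hy => by
    have h1 := Subgroup.mem_centralizer_iff.1 hvC _ ((Subgroup.mem_normalizer_iff.1 (inv_mem hn) y).1 hy)
    calc y * (n * v * n⁻¹) = n * ((n⁻¹ * y * n⁻¹⁻¹) * v) * n⁻¹ := by group
      _ = n * (v * (n⁻¹ * y * n⁻¹⁻¹)) * n⁻¹ := by rw [h1]
      _ = n * v * n⁻¹ * y := by group
  obtain ⟨w, hw, t, ht, -, e⟩ := hdec _ hnv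
  have hc1 : Commute v (n * v * n⁻¹) := e ▸ (hW w hw).mul_right (c.le v hv t ht)
  refine Subgroup.mem_centralizer_singleton_iff.2 ?_
  by_cases h : n * v * n⁻¹ = v
  · exact mul_inv_eq_iff_eq_mul.1 h
  · exfalso
    have Fn : Frame v (n * v * n⁻¹) := ⟨hv, ((MulAut.conj n).orderOf_eq v).trans hv, Ne.symm h, hc1⟩
    obtain ⟨y, hy, hy1⟩ := exists_mem_ne_one hne
    have h1 := c.inverts Fn (hY hy)
    rw [← Subgroup.mem_centralizer_iff.1 hnv y hy, mul_inv_cancel_right] at h1
    exact hy1 (eq_one_of_mul_self (c.odd_U hv) (hY hy) (by nth_rw 2 [h1]; exact mul_inv_cancel y))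

end CfsgLib.DGroup48
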