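import Mathlib
import Cfsg.Agent.DGroup48.Hc
import Cfsg.Agent.Dickson.MaxPoly
import Cfsg.Agent.Constrained.Basic
import Cfsg.Agent.S0508
import Cfsg.Agent.S1254
import Cfsg.Agent.S0205

/-!
One class of involutions with D-group centralisers and trivial core: PSL(2, q).
-/

set_option autoImplicit false

namespace CfsgLib.DGroup48

open scoped Pointwise

variable {G : Type*} [Group G] [Finite G]

theorem solvable_of_odd_quotient {N : Subgroup G} [N.Normal] (hN : Group.IsSolvable N)
    (hq : Odd (Nat.card (G ⧸ N))) : Group.IsSolvable G := by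
  haveI := hN
  haveI : Group.IsSolvable (G ⧸ N) := Cfsg.Agent.S0205.result hq
  exact Group.isSolvable_of_ker_le_range N.subtype (QuotientGroup.mk' N)
    (by rw [QuotientGroup.ker_mk', Subgroup.range_subtype])

theorem solvable_of_complement {p : ℕ} [Fact p.Prime] (hp : p = 2) (h : Cfsg.HasNormalPComplement p G) :
    Group.IsSolvable G := by
  subst hp
  obtain ⟨P, M, hM, hc⟩ := h
  haveI := hM
  obtain ⟨i, hi⟩ := IsPGroup.iff_card.1 P.2
  have hMo : Odd (Nat.card M) := by
    rw [← Nat.not_even_iff_odd, even_iff_two_dvd]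
    intro h2
    have hPc := P.card_eq_multiplicity
    rw [hi] at hPc
    have hd : 2 ^ (i + 1) ∣ Nat.card G := by
      rw [← hc.card_mul, hi, pow_succ']; exact mul_dvd_mul_right h2 _
    have h3 := (Nat.Prime.pow_dvd_iff_le_factorization Nat.prime_two Nat.card_pos.ne').1 hd
    have := Nat.pow_right_injective (le_refl 2) hPc
    omega
  haveI : Group.IsSolvable M := Cfsg.Agent.S0205.result hMo
  have hq : IsPGroup 2 (G ⧸ M) := IsPGroup.of_card (n := i) (by
    rw [← Subgroup.index_eq_card, hc.symm.index_eq_card, hi])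
  haveI := hq.isNilpotent
  exact Group.isSolvable_of_ker_le_range M.subtype (QuotientGroup.mk' M)
    (by rw [QuotientGroup.ker_mk', Subgroup.range_subtype])

theorem card_ne_twelve [IsSimpleGroup G] : Nat.card G ≠ 12 := by
  intro h
  haveI : Fact (Nat.Prime 2) := ⟨Nat.prime_two⟩
  let S : Sylow 2 G := default
  have hS : Nat.card (S : Subgroup G) = 4 := by
    rw [S.card_eq_multiplicity, h]
    have : (12 : ℕ).factorization 2 = 2 := by
      rw [show (12 : ℕ) = 2 ^ 2 * 3 by norm_num, Nat.factorization_mul (by norm_num) (by norm_num),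
        Nat.prime_two.factorization_pow, Nat.prime_three.factorization]
      simp
    rw [this]; norm_num
  have hidx : (S : Subgroup G).index = 3 := by
    have := (S : Subgroup G).card_mul_index
    rw [hS, h] at this; omega
  have hk := (inferInstance : (MulAction.toPermHom G (G ⧸ (S : Subgroup G))).ker.Normal)
  rcases hk.eq_bot_or_eq_top with hb | hb
  · have hd := Subgroup.card_dvd_of_injective _ ((MonoidHom.ker_eq_bot_iff _).1 hb)
    rw [Nat.card_perm, ← Subgroup.index_eq_card, hidx, h] at hd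
    norm_num at hd
  · rw [← Subgroup.normalCore_eq_ker] at hb
    have hle := (S : Subgroup G).normalCore_le
    rw [hb, top_le_iff] at hle
    rw [hle, Subgroup.card_top, h] at hS
    norm_num at hS

namespace Ctx

variable (c : Ctx G)

include c

theorem normal_eq_bot {L : Subgroup G} (hL : L.Normal) (ho : Odd (Nat.card L)) : L = ⊥ :=
  le_bot_iff.1 (c.core ▸ le_sSup (show L ∈ {N : Subgroup G | N.Normal ∧ (Nat.card N).Coprime 2} from
    ⟨hL, Nat.coprime_two_right.2 ho⟩))

/-- The setting forces simplicity. -/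
theorem isSimpleGroup (S0 : Sylow 2 G) {m : ℕ} (hm : 2 ≤ m) (e0 : (S0 : Subgroup G) ≃* DihedralGroup m)
    (hns : ¬ Group.IsSolvable G) : IsSimpleGroup G := by
  classical
  haveI : Fact (Nat.Prime 2) := ⟨Nat.prime_two⟩
  haveI : Nontrivial G := by
    by_contra h
    rw [not_nontrivial_iff_subsingleton] at h
    exact hns inferInstance
  refine ⟨fun N hN => or_iff_not_imp_left.2 fun hNb => ?_⟩
  haveI := hN
  -- `N` has an involution, so all of them
  have hNe : Even (Nat.card N) := by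
    rw [← Nat.not_odd_iff_even]; exact fun h => hNb (c.normal_eq_bot hN h)
  obtain ⟨⟨i, hiN⟩, hi⟩ := exists_prime_orderOf_dvd_card' (G := N) 2 (even_iff_two_dvd.1 hNe)
  have hi' : orderOf i = 2 := by rw [← hi, ← Subgroup.orderOf_coe]
  have hinv : ∀ j, orderOf j = 2 → j ∈ N := fun j hj => by
    obtain ⟨g, hg⟩ := c.conj i j hi' hj
    exact hg ▸ hN.conj_mem i hiN g
  obtain ⟨x, F⟩ := c.exists_frame hi'
  obtain ⟨S, hSz, hS⟩ := c.exists_central_sylow F
  have hx : x ∈ (S : Subgroup G) := hS F.u_mem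
  have hzS : i ∈ (S : Subgroup G) := hS F.v_mem
  -- every Sylow subgroup lies in `N`
  have hdih : ∀ T : Sylow 2 G, (T : Subgroup G) ≤ N := by
    intro T g hg
    obtain ⟨f⟩ : Nonempty ((T : Subgroup G) ≃* DihedralGroup m) := ⟨(T.equiv S0).trans e0⟩
    have key : ∀ d : DihedralGroup m, (d * d = 1 → d ≠ 1 → ((f.symm d : (T : Subgroup G)) : G) ∈ N) := by
      intro d hd hd1
      refine hinv _ (orderOf_two_of_mul_self ?_ fun e => hd1 ?_)
      · rw [← Subgroup.coe_mul, ← map_mul, hd, map_one, Subgroup.coe_one]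
      · exact f.symm.injective (Subtype.ext (e.trans (by rw [map_one, Subgroup.coe_one])))
    have hall : ∀ d : DihedralGroup m, ((f.symm d : (T : Subgroup G)) : G) ∈ N := by
      intro d
      have hsr : ∀ a : ZMod m, ((f.symm (DihedralGroup.sr a) : (T : Subgroup G)) : G) ∈ N := fun a =>
        key _ (by simp) (fun h => by cases h)
      cases d with
      | sr a => exact hsr a
      | r a =>
        rw [show DihedralGroup.r a = DihedralGroup.sr 0 * DihedralGroup.sr a by simp, map_mul, Subgroup.coe_mul]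
        exact mul_mem (hsr 0) (hsr a)
    have := hall (f ⟨g, hg⟩)
    rwa [f.symm_apply_apply] at this
  have hq : Odd (Nat.card (G ⧸ N)) := by
    rw [← Subgroup.index_eq_card, ← Nat.not_even_iff_odd, even_iff_two_dvd]
    exact fun h2 => S.not_dvd_index (h2.trans (Subgroup.index_dvd_of_le (hdih S)))
  have hNns : ¬ Group.IsSolvable N := fun h => hns (solvable_of_odd_quotient h hq)
  -- every frame in `S` has a mover in `N`
  have hmove : ∀ k ∈ (S : Subgroup G), ∀ F : Frame i k, ∃ n ∈ N, n * k * n⁻¹ = i := by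
    intro k hk F'
    have hfS : F'.four ≤ (S : Subgroup G) := F'.four_le hzS hk
    by_cases he : F'.four = (S : Subgroup G)
    · let SN : Sylow 2 N := S.subtype (hdih S)
      have eN : (SN : Subgroup N) ≃* DihedralGroup m :=
        (Subgroup.subgroupOfEquivOfLe (hdih S)).trans ((S.equiv S0).trans e0)
      have hnc : ¬ Cfsg.HasNormalPComplement 2 N := fun h => hNns (solvable_of_complement rfl h)
      rw [Cfsg.Agent.S1254.result SN m hm eN] at hnc
      push Not at hnc
      obtain ⟨V, hV, hVk, hVne⟩ := hnc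
      have hV4 : V.map N.subtype = F'.four := by
        refine Subgroup.eq_of_le_of_card_ge ?_ (by rw [Subgroup.card_subtype, hVk.card_four, F'.card_four])
        rintro _ ⟨q, hq, rfl⟩
        rw [he]; exact hV hq
      obtain ⟨n, hn, hn'⟩ : ∃ n ∈ Subgroup.normalizer (V : Set N),
          n ∉ Subgroup.centralizer (V : Set N) ⊔ ((SN : Subgroup N) ⊓ Subgroup.normalizer (V : Set N)) := by
        by_contra h
        push Not at h
        exact hVne (le_antisymm h (sup_le (Subgroup.centralizer_le_normalizer _) inf_le_right))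
      have hnG : (n : G) ∈ Subgroup.normalizer (F'.four : Set G) := by
        rw [← hV4]
        refine mem_normalizer_of_conj_mem ?_
        rintro _ ⟨q, hq, rfl⟩
        exact ⟨n * q * n⁻¹, (Subgroup.mem_normalizer_iff.1 hn q).1 hq, rfl⟩
      have hmv : (n : G) * i * (n : G)⁻¹ ≠ i := fun e => hn' (Subgroup.mem_sup_right
        ⟨c.stab_mem F' hSz hk hnG (mul_inv_eq_iff_eq_mul.1 e).symm, hn⟩)
      obtain ⟨g, hg, hgk⟩ := c.exists_mover F'
      exact ⟨g, full_normalizer F' (fun a ha hia => hdih S (c.stab_mem F' hSz hk ha hia)) hnG n.2 hmv g hg, hgk⟩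
    · obtain ⟨T, hTw, hT⟩ := c.exists_central_sylow F'.swap
      rw [F'.four_swap] at hT
      have hne' : F'.four ≠ (T : Subgroup G) := fun e => he (by
        refine Subgroup.eq_of_le_of_card_ge hfS ?_
        rw [e, S.card_eq_multiplicity, T.card_eq_multiplicity])
      obtain ⟨n, hnT, hn, hn4⟩ := exists_normalizer_gt T.2 hT hne'
      refine ⟨n, hdih T hnT, ?_⟩
      have hcw := hTw n hnT
      rcases F'.conj_mem hn F'.u_mem (ne_one_of_orderOf F'.ou) with e | e | e
      · exact e
      · exfalso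
        refine hn4 ?_
        have := c.mem_four F'.swap (g := n) hcw (mul_inv_eq_iff_eq_mul.1 e).symm
        rwa [F'.four_swap] at this
      · exfalso
        have h1 : n * (i * k) * n⁻¹ = i * k := by rw [← hcw.eq, mul_inv_cancel_right]
        have h2 : n * k * n⁻¹ = n * (i * k) * n⁻¹ := by rw [e, h1]
        exact ne_one_of_orderOf F'.ov (mul_eq_right.1 (mul_left_cancel (mul_right_cancel h2)).symm)
  -- `C(i)` lies in `N`
  have hUN : U i ≤ N := fun a ha => by
    refine mem_of_sq_mem ((c.mem_U hi').1 ha).2 ?_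
    have hxN : x ∈ N := hinv x F.ou
    have h1 := c.inverts F ha
    have h2 : a * x * a⁻¹ * x⁻¹ = a * a := by
      calc a * x * a⁻¹ * x⁻¹ = a * (x * a * x⁻¹)⁻¹ := by group
        _ = a * a := by rw [h1, inv_inv]
    exact h2 ▸ mul_mem (hN.conj_mem x hxN a) (inv_mem hxN)
  have hCN : Subgroup.centralizer ({i} : Set G) ≤ N :=
    (c.centralizer_le F hSz hx).trans (sup_le hUN (hdih S))
  rw [Subgroup.eq_top_iff']
  intro g
  have hj : g * i * g⁻¹ ∈ N := hN.conj_mem i hiN g
  have hjo : orderOf (g * i * g⁻¹) = 2 := ((MulAut.conj g).orderOf_eq i).trans hi'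
  let SN : Sylow 2 N := S.subtype (hdih S)
  obtain ⟨T, hT⟩ := (zpowers_isPGroup (r := 2) (x := (⟨_, hj⟩ : N)) (k := 1)
    (Subtype.ext (by
      show (g * i * g⁻¹) ^ 2 ^ 1 = 1
      rw [pow_one, pow_two, mul_self_of_orderOf hjo]))).exists_le_sylow
  obtain ⟨h, hh⟩ := MulAction.exists_smul_eq N T SN
  have h1 : h * ⟨_, hj⟩ * h⁻¹ ∈ (SN : Subgroup N) := by
    rw [← hh, Sylow.coe_subgroup_smul, Subgroup.mem_pointwise_smul_iff_inv_smul_mem]
    simp only [MulAut.smul_def, MulAut.conj_inv_apply]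
    rw [show h⁻¹ * (h * ⟨_, hj⟩ * h⁻¹) * h = (⟨_, hj⟩ : N) by group]
    exact hT (Subgroup.mem_zpowers _)
  have h2 : (h : G) * (g * i * g⁻¹) * (h : G)⁻¹ ∈ (S : Subgroup G) := h1
  obtain ⟨n, hn, hne⟩ : ∃ n ∈ N, n * (g * i * g⁻¹) * n⁻¹ = i := by
    by_cases hz : (h : G) * (g * i * g⁻¹) * (h : G)⁻¹ = i
    · exact ⟨h, h.2, hz⟩
    obtain ⟨n, hn, hnk⟩ := hmove _ h2
      ⟨hi', ((MulAut.conj (h : G)).orderOf_eq _).trans hjo, Ne.symm hz, hSz _ h2⟩
    exact ⟨n * h, mul_mem hn h.2, by
      rw [show n * h * (g * i * g⁻¹) * (n * h)⁻¹ = n * (h * (g * i * g⁻¹) * (h : G)⁻¹) * n⁻¹ by group, hnk]⟩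
  have h3 : n * g ∈ Subgroup.centralizer ({i} : Set G) := Subgroup.mem_centralizer_singleton_iff.2 (by
    rw [← mul_inv_eq_iff_eq_mul, show n * g * i * (n * g)⁻¹ = n * (g * i * g⁻¹) * n⁻¹ by group, hne])
  have := mul_mem (inv_mem hn) (hCN h3)
  rwa [inv_mul_cancel_left] at this

/-- The conclusion: PSL(2, q). -/
theorem exists_psl (S0 : Sylow 2 G) {m : ℕ} (hm : 2 ≤ m) (e0 : (S0 : Subgroup G) ≃* DihedralGroup m)
    (hns : ¬ Group.IsSolvable G) :
    ∃ (F : Type) (_ : Field F) (_ : Fintype F), Odd (Fintype.card F) ∧ 3 < Fintype.card F ∧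
      Nonempty (G ≃* Matrix.ProjectiveSpecialLinearGroup (Fin 2) F) := by
  classical
  haveI : Fact (Nat.Prime 2) := ⟨Nat.prime_two⟩
  haveI := c.isSimpleGroup S0 hm e0 hns
  have h2 : 2 ∣ Nat.card G := by
    refine (Dvd.dvd.trans ?_ (Subgroup.card_subgroup_dvd_card (S0 : Subgroup G)))
    rw [Nat.card_congr e0.toEquiv, DihedralGroup.nat_card]; exact dvd_mul_right 2 m
  obtain ⟨z, hz⟩ := exists_prime_orderOf_dvd_card' (G := G) 2 h2
  obtain ⟨x, F⟩ := c.exists_frame hz
  obtain ⟨S, hSz, hS⟩ := c.exists_central_sylow F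
  have hzS := hS F.v_mem
  have hxS := hS F.u_mem
  set C := Subgroup.centralizer ({z} : Set G) with hC
  have hUC : U z ≤ C := fun a ha => Subgroup.mem_centralizer_singleton_iff.2 (c.commute_U hz ha).eq.symm
  have hO : U z = (Cfsg.oddCore C).map C.subtype := by
    refine le_antisymm (fun a ha => ?_) ?_
    · refine ⟨⟨a, hUC ha⟩, le_sSup (show (U z).subgroupOf C ∈
        {N : Subgroup C | N.Normal ∧ (Nat.card N).Coprime 2} from
        ⟨Subgroup.normal_subgroupOf_of_le_normalizer fun g hg => c.normalizes hz le_rfl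
          (Subgroup.mem_centralizer_singleton_iff.1 hg).symm, ?_⟩) ha, rfl⟩
      rw [Nat.card_congr (Subgroup.subgroupOfEquivOfLe hUC).toEquiv]
      exact Nat.coprime_two_right.2 (c.odd_U hz)
    · rintro _ ⟨y, hy, rfl⟩
      refine (c.mem_U hz).2 ⟨(Subgroup.mem_centralizer_singleton_iff.1 y.2).symm, ?_⟩
      have hco : (Nat.card (Cfsg.oddCore C)).Coprime 2 := oddCore_coprime C
      show Odd (orderOf (y : G))
      rw [Subgroup.orderOf_coe]
      exact (Nat.coprime_two_right.1 hco).of_dvd_nat ((Cfsg.oddCore C).orderOf_dvd_natCard hy)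
  have hSA : ∀ s ∈ (S : Subgroup G), U z ≠ ⊥ → (s ∈ Subgroup.centralizer (U z : Set G) ↔ s ∈ c.A z) := by
    intro s hs hne
    refine ⟨fun h => ?_, fun h => Subgroup.mem_centralizer_iff.2 fun y hy =>
      (c.comm z hz s h y (c.U_le_A hz hy)).eq.symm⟩
    by_contra hsA
    obtain ⟨y, hy, hy1⟩ := exists_mem_ne_one hne
    have h1 := (c.out_inv z hz s (hSz s hs) hsA).2 y (c.U_le_A hz hy)
    rw [← Subgroup.mem_centralizer_iff.1 h y hy, mul_inv_cancel_right] at h1
    exact hy1 (eq_one_of_mul_self (c.odd_U hz) hy (by nth_rw 2 [h1]; exact mul_inv_cancel y))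
  obtain ⟨F0, iF, iF', hodd, hiso⟩ := Cfsg.Agent.S0508.result S m hm ⟨(S.equiv S0).trans e0⟩ z hz hzS
    (fun s hs => (hSz s hs).eq.symm) (U z) hO
    (fun hne => by
      refine ⟨isCyclic_of_unique_involution (S.2.to_le inf_le_left)
        (fun a ha b hb => c.comm z hz a ((hSA a ha.1 hne).1 ha.2) b ((hSA b hb.1 hne).1 hb.2))
        (fun a ha => c.unique z hz a ((hSA a ha.1 hne).1 ha.2)), ?_⟩
      rw [Subgroup.relIndex, Subgroup.index_eq_two_iff]
      refine ⟨⟨x, hxS⟩, fun b => ?_⟩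
      have key : ∀ s : (S : Subgroup G), s ∈ ((S : Subgroup G) ⊓ Subgroup.centralizer (U z : Set G)).subgroupOf
          (S : Subgroup G) ↔ (s : G) ∈ c.A z := fun s =>
        ⟨fun h => (hSA s s.2 hne).1 h.2, fun h => ⟨s.2, (hSA s s.2 hne).2 h⟩⟩
      rw [key, key]
      show Xor' ((b : G) * x ∈ c.A z) ((b : G) ∈ c.A z)
      by_cases hb : (b : G) ∈ c.A z
      · exact Or.inr ⟨hb, fun h => c.not_mem_A F (by simpa using mul_mem (inv_mem hb) h)⟩
      · exact Or.inl ⟨c.out_mul z hz b x (hSz b b.2) hb F.comm (c.not_mem_A F), hb⟩)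
    (fun s hs hsO y hy => (c.out_inv z hz s (hSz s hs) (fun h => hsO (Subgroup.mem_centralizer_iff.2
      fun y hy => (c.comm z hz s h y (c.U_le_A hz hy)).eq.symm))).2 y (c.U_le_A hz hy))
    (fun Y hY hne => c.normalizer_le S0 hm e0 hz hY hne)
  refine ⟨F0, iF, iF', hodd, ?_, hiso⟩
  by_contra h
  obtain ⟨f⟩ := hiso
  have h3 : Fintype.card F0 = 3 := by
    have := Fintype.one_lt_card (α := F0)
    obtain ⟨k, hk⟩ := hodd
    omega
  refine card_ne_twelve (G := G) ?_
  rw [Nat.card_congr f.toEquiv]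
  have := Dickson.psl_card_mul_two (F := F0) hodd
  rw [h3] at this
  omega
where
  oddCore_coprime (C : Subgroup G) : (Nat.card (Cfsg.oddCore C)).Coprime 2 :=
    Constrained.pPrimeCore_coprime

end Ctx

end CfsgLib.DGroup48
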