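import Mathlib
import Cfsg.Agent.DGroup48.DCent
import Cfsg.Agent.DGroup48.Simple
import Cfsg.Agent.DGroup48.AbelianBasic
import Cfsg.Agent.PByCyclic.Basic
import Cfsg.Agent.S3864
import Cfsg.Agent.SelfCentPrime.PrimeCore

/-!
An involution with a D-group centraliser containing a Sylow 2-subgroup: the one class case and the
index two case.
-/

set_option autoImplicit false

namespace CfsgLib.DGroup48

open scoped Pointwise

variable {G : Type*} [Group G] [Finite G]

/-- A Sylow 2-subgroup centralising `t` is dihedral, unless `G` is solvable. -/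
theorem DCent.dihedral {t : G} {A : Subgroup G} (hd : DCent t A) (hns : ¬ Group.IsSolvable G)
    (T : Sylow 2 G) (hT : ∀ s ∈ (T : Subgroup G), Commute t s) :
    ∃ m : ℕ, 2 ≤ m ∧ Nonempty ((T : Subgroup G) ≃* DihedralGroup m) ∧ t ∈ (T : Subgroup G) ∧
      Nat.card ((T : Subgroup G) ⊓ A : Subgroup G) = m := by
  haveI : Fact (Nat.Prime 2) := ⟨Nat.prime_two⟩
  have htT : t ∈ (T : Subgroup G) := by
    have hz := zpowers_isPGroup (r := 2) (x := t) (k := 1) (by rw [pow_one, pow_two, mul_self_of_orderOf hd.ord])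
    have hn : (T : Subgroup G) ≤ Subgroup.normalizer (Subgroup.zpowers t : Set G) := fun s hs =>
      mem_normalizer_of_conj_mem fun y hy => by
        obtain ⟨i, rfl⟩ := hy
        show s * t ^ i * s⁻¹ ∈ _
        rw [← conj_zpow, ← (hT s hs).eq, mul_inv_cancel_right]
        exact Subgroup.zpow_mem_zpowers t i
    exact T.3 (T.2.to_sup_of_normal_right' hz hn) le_sup_left ▸ Subgroup.mem_sup_right (Subgroup.mem_zpowers t)
  set R := (T : Subgroup G) ⊓ A with hR
  have hcyc : IsCyclic R := isCyclic_of_unique_involution (T.2.to_le inf_le_left)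
    (fun a ha b hb => hd.comm a ha.2 b hb.2) (fun a ha => hd.unique a ha.2)
  obtain ⟨x, hx, hxA⟩ : ∃ x ∈ (T : Subgroup G), x ∉ A := by
    by_contra h
    push Not at h
    have hTA : R = (T : Subgroup G) := inf_eq_left.2 h
    haveI : IsCyclic (T : Subgroup G) := hTA ▸ hcyc
    exact hns (solvable_of_cyclic T inferInstance)
  obtain ⟨⟨a, ha⟩, hgen⟩ := hcyc.exists_generator
  have hidx : R.relIndex (T : Subgroup G) = 2 := by
    rw [Subgroup.relIndex, Subgroup.index_eq_two_iff]
    refine ⟨⟨x, hx⟩, fun b => ?_⟩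
    have key : ∀ s : (T : Subgroup G), s ∈ R.subgroupOf (T : Subgroup G) ↔ (s : G) ∈ A := fun s =>
      ⟨fun h => h.2, fun h => ⟨s.2, h⟩⟩
    rw [key, key]
    show Xor' ((b : G) * x ∈ A) ((b : G) ∈ A)
    by_cases hb : (b : G) ∈ A
    · exact Or.inr ⟨hb, fun h => hxA (by simpa using mul_mem (inv_mem hb) h)⟩
    · exact Or.inl ⟨hd.out_mul b x (hT b b.2) hb (hT x hx) hxA, hb⟩
  have hcard : Nat.card (T : Subgroup G) = 2 * Nat.card R := by
    have h1 := (R.subgroupOf (T : Subgroup G)).card_mul_index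
    rw [← Subgroup.relIndex, hidx, Nat.card_congr (Subgroup.subgroupOfEquivOfLe (H := R) (K := (T : Subgroup G)) inf_le_left).toEquiv] at h1
    omega
  have hao : orderOf a = Nat.card R := by
    rw [← orderOf_eq_card_of_forall_mem_zpowers hgen, Subgroup.orderOf_mk]
  obtain ⟨hx2, hinv⟩ := hd.out_inv x (hT x hx) hxA
  haveI : NeZero (Nat.card R) := ⟨Nat.card_pos.ne'⟩
  refine ⟨Nat.card R, ?_, PByCyclic.equiv_dihedral a x ha.1 hx hao hx2
    (fun h => hxA (Subgroup.zpowers_le.2 ha.2 h)) (hinv a ha.2) hcard, htT, rfl⟩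
  have h1 : orderOf t ∣ Nat.card R := Subgroup.orderOf_dvd_natCard R ⟨htT, hd.mem⟩
  rw [hd.ord] at h1
  exact Nat.le_of_dvd Nat.card_pos h1

theorem oddCore_of_normal {N : Subgroup G} [N.Normal] (h : Cfsg.oddCore G = ⊥) : Cfsg.oddCore N = ⊥ := by
  haveI : Fact (Nat.Prime 2) := ⟨Nat.prime_two⟩
  haveI : (Cfsg.oddCore N).Characteristic := SelfCentPrime.pPrimeCore_characteristic (G := N) 2
  rw [← Subgroup.map_eq_bot_iff_of_injective _ N.subtype_injective, ← le_bot_iff, ← h]
  refine le_sSup (show (Cfsg.oddCore N).map N.subtype ∈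
    {M : Subgroup G | M.Normal ∧ (Nat.card M).Coprime 2} from ⟨inferInstance, ?_⟩)
  rw [Subgroup.card_subtype]
  exact Constrained.pPrimeCore_coprime

/-- A central involution in some Sylow subgroup, up to conjugation. -/
theorem exists_central_sylow' {t : G} (ht : orderOf t = 2)
    (hconj : ∀ a b : G, orderOf a = 2 → orderOf b = 2 → ∃ g, g * a * g⁻¹ = b) :
    ∃ T : Sylow 2 G, ∀ s ∈ (T : Subgroup G), Commute t s := by
  haveI : Fact (Nat.Prime 2) := ⟨Nat.prime_two⟩
  let S0 : Sylow 2 G := default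
  have h2 : 2 ∣ Nat.card (S0 : Subgroup G) := by
    refine S0.dvd_card_of_dvd_card ?_
    rw [← ht]; exact orderOf_dvd_natCard t
  haveI : Nontrivial (S0 : Subgroup G) := Finite.one_lt_card_iff_nontrivial.1
    (Nat.lt_of_lt_of_le one_lt_two (Nat.le_of_dvd Nat.card_pos h2))
  haveI := S0.2.center_nontrivial
  obtain ⟨k, hk⟩ := (S0.2.to_subgroup (Subgroup.center (S0 : Subgroup G))).exists_card_eq
  have h3 : 2 ∣ Nat.card (Subgroup.center (S0 : Subgroup G)) := by
    rcases k with _ | k
    · exact absurd hk (Finite.one_lt_card.ne')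
    · rw [hk]; exact dvd_pow_self 2 k.succ_ne_zero
  obtain ⟨z, hz⟩ := exists_prime_orderOf_dvd_card' (G := Subgroup.center (S0 : Subgroup G)) 2 h3
  have hz' : orderOf ((z : (S0 : Subgroup G)) : G) = 2 := by
    rw [Subgroup.orderOf_coe, Subgroup.orderOf_coe, hz]
  obtain ⟨g, hg⟩ := hconj _ _ hz' ht
  refine ⟨g • S0, fun a ha => ?_⟩
  rw [Sylow.coe_subgroup_smul, Subgroup.mem_pointwise_smul_iff_inv_smul_mem] at ha
  have hcm := congrArg Subtype.val (Subgroup.mem_center_iff.1 z.2 ⟨_, ha⟩)
  simp only [MulAut.smul_def, MulAut.conj_inv_apply] at hcm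
  have e : (g⁻¹ * a * g) * ((z : (S0 : Subgroup G)) : G) = ((z : (S0 : Subgroup G)) : G) * (g⁻¹ * a * g) := hcm
  show t * a = a * t
  calc t * a = g * (((z : (S0 : Subgroup G)) : G) * (g⁻¹ * a * g)) * g⁻¹ := by rw [← hg]; group
    _ = g * ((g⁻¹ * a * g) * ((z : (S0 : Subgroup G)) : G)) * g⁻¹ := by rw [e]
    _ = a * t := by rw [← hg]; group

/-- One class of involutions: PSL(2, q). -/
theorem DCent.psl_of_one_class {t : G} {A : Subgroup G} (hd : DCent t A) (hcore : Cfsg.oddCore G = ⊥)
    (hns : ¬ Group.IsSolvable G)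
    (hconj : ∀ a b : G, orderOf a = 2 → orderOf b = 2 → ∃ g, g * a * g⁻¹ = b) :
    ∃ (F : Type) (_ : Field F) (_ : Fintype F), Odd (Fintype.card F) ∧ 3 < Fintype.card F ∧
      Nonempty (G ≃* Matrix.ProjectiveSpecialLinearGroup (Fin 2) F) := by
  obtain ⟨T, hT⟩ := exists_central_sylow' hd.ord hconj
  obtain ⟨m, hm, ⟨e⟩, -, -⟩ := hd.dihedral hns T hT
  exact (hd.toCtx hconj hcore).exists_psl T hm e hns

/-- A dihedral Sylow four-group centralising `t`: one class of involutions. -/
theorem DCent.conj_of_four {t : G} {A : Subgroup G} (hd : DCent t A) (hns : ¬ Group.IsSolvable G)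
    (T : Sylow 2 G) (hT : ∀ s ∈ (T : Subgroup G), Commute t s) (h4 : Nat.card (T : Subgroup G) = 4) :
    ∀ a b : G, orderOf a = 2 → orderOf b = 2 → ∃ g, g * a * g⁻¹ = b := by
  classical
  haveI : Fact (Nat.Prime 2) := ⟨Nat.prime_two⟩
  obtain ⟨m, hm, ⟨e⟩, htT, hR⟩ := hd.dihedral hns T hT
  have hm2 : m = 2 := by
    rw [Nat.card_congr e.toEquiv, DihedralGroup.nat_card] at h4; omega
  obtain ⟨x, hx, hxA⟩ : ∃ x ∈ (T : Subgroup G), x ∉ A := by
    by_contra h
    push Not at h
    rw [inf_eq_left.2 (show (T : Subgroup G) ≤ A from h), h4] at hR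
    omega
  have F : Frame t x := ⟨hd.ord, orderOf_two_of_mul_self (hd.out_inv x (hT x hx) hxA).1
    (fun h => hxA (h ▸ one_mem A)), fun h => hxA (h ▸ hd.mem), hT x hx⟩
  have hfour : F.four = (T : Subgroup G) :=
    Subgroup.eq_of_le_of_card_ge (F.four_le htT hx) (by rw [F.card_four, h4])
  -- some element of odd order normalises `T` without centralising it
  obtain ⟨a, hao, haN, haC⟩ : ∃ a, Odd (orderOf a) ∧ a ∈ Subgroup.normalizer ((T : Subgroup G) : Set G) ∧
      a ∉ Subgroup.centralizer ((T : Subgroup G) : Set G) := by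
    by_contra h
    push Not at h
    have hNC : Subgroup.normalizer ((T : Subgroup G) : Set G) ≤ Subgroup.centralizer ((T : Subgroup G) : Set G) := by
      intro n hn
      obtain ⟨a, b, ha, hb, rfl, hao, k, hk⟩ := exists_odd_two_parts n
      refine mul_mem (h a hao (Subgroup.zpowers_le.2 hn ha)) ?_
      have hbT : b ∈ (T : Subgroup G) := by
        have hz := zpowers_isPGroup (r := 2) (x := b) (k := k) hk
        have h2 := T.3 (hz.to_sup_of_normal_right' T.2 (Subgroup.zpowers_le.2 (Subgroup.zpowers_le.2 hn hb))) le_sup_right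
        exact h2 ▸ Subgroup.mem_sup_left (Subgroup.mem_zpowers b)
      refine Subgroup.mem_centralizer_iff.2 fun y hy => ?_
      exact congrArg Subtype.val (F.four_comm.is_comm.comm ⟨y, hfour ▸ hy⟩ ⟨b, hfour ▸ hbT⟩)
    exact hns (solvable_of_complement rfl ⟨T, _, inferInstance,
      MonoidHom.ker_transferSylow_isComplement' T hNC⟩)
  rw [← hfour] at haN haC
  -- it fixes none of the involutions
  have hnofix : ∀ y ∈ F.four, y ≠ 1 → a * y * a⁻¹ ≠ y := by
    intro y hy hy1 hfix
    refine haC (Subgroup.mem_centralizer_iff.2 fun w hw => ?_)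
    have hsq : ∀ q ∈ F.four, Commute (a * a) q := by
      intro q hq
      by_cases hq1 : q = 1
      · exact hq1 ▸ Commute.one_right _
      by_cases hqy : q = y
      · subst hqy
        exact (Commute.mul_left (mul_inv_eq_iff_eq_mul.1 hfix : a * q = q * a) (mul_inv_eq_iff_eq_mul.1 hfix : a * q = q * a))
      -- `a` maps `q` to `q` or to the third member
      have hq' : a * q * a⁻¹ ∈ F.four := (Subgroup.mem_normalizer_iff.1 haN q).1 hq
      have hq2 : a * (a * q * a⁻¹) * a⁻¹ ∈ F.four := (Subgroup.mem_normalizer_iff.1 haN _).1 hq'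
      have n1 : a * q * a⁻¹ ≠ 1 := fun e => hq1 (conj_eq_one_iff.1 e)
      have n2 : a * q * a⁻¹ ≠ y := fun e => hqy (mul_left_cancel (mul_right_cancel (e.trans hfix.symm)))
      have n3 : a * (a * q * a⁻¹) * a⁻¹ ≠ 1 := fun e => n1 (conj_eq_one_iff.1 e)
      have n4 : a * (a * q * a⁻¹) * a⁻¹ ≠ y := fun e => n2 (mul_left_cancel (mul_right_cancel (e.trans hfix.symm)))
      have hres : a * (a * q * a⁻¹) * a⁻¹ = q := by
        by_cases h1 : a * q * a⁻¹ = q
        · rw [h1, h1]
        have h5 : a * (a * q * a⁻¹) * a⁻¹ ≠ a * q * a⁻¹ := fun e => h1 (mul_left_cancel (mul_right_cancel e))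
        rcases F.mem_four.1 hy with e1 | e1 | e1 | e1 <;> rcases F.mem_four.1 hq with e2 | e2 | e2 | e2 <;>
          rcases F.mem_four.1 hq' with e3 | e3 | e3 | e3 <;> rcases F.mem_four.1 hq2 with e4 | e4 | e4 | e4 <;>
          first
            | exact e4.trans e2.symm
            | exact absurd e1 hy1
            | exact absurd e2 hq1
            | exact absurd e3 n1
            | exact absurd e4 n3
            | exact absurd (e2.trans e1.symm) hqy
            | exact absurd (e3.trans e1.symm) n2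
            | exact absurd (e4.trans e1.symm) n4
            | exact absurd (e3.trans e2.symm) h1
            | exact absurd (e4.trans e3.symm) h5
      show a * a * q = q * (a * a)
      rw [← mul_inv_eq_iff_eq_mul, show a * a * q * (a * a)⁻¹ = a * (a * q * a⁻¹) * a⁻¹ by group, hres]
    have h6 : a ∈ Subgroup.centralizer ({w} : Set G) :=
      mem_of_sq_mem hao (Subgroup.mem_centralizer_singleton_iff.2 (hsq w hw).eq)
    exact (Subgroup.mem_centralizer_singleton_iff.1 h6).symm
  -- every involution is conjugate to `t`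
  have hmem : ∀ y ∈ F.four, y ≠ 1 → ∃ g, g * y * g⁻¹ = t := by
    have h1 := hnofix t F.v_mem (ne_one_of_orderOf F.ov)
    have h2 := hnofix x F.u_mem (ne_one_of_orderOf F.ou)
    have h3 := hnofix (t * x) (mul_mem F.v_mem F.u_mem) F.mul_ne_one
    have e3 := F.conj_third a
    have key : ∀ b, a * t * a⁻¹ = b → ∀ b', a * b * a⁻¹ = b' →
        (∃ g, g * b * g⁻¹ = t) ∧ ∃ g, g * b' * g⁻¹ = t := fun b hb b' hb' =>
      ⟨⟨a⁻¹, by rw [← hb]; group⟩, ⟨a⁻¹ * a⁻¹, by rw [← hb', ← hb]; group⟩⟩
    have hx' : (∃ g, g * x * g⁻¹ = t) ∧ ∃ g, g * (t * x) * g⁻¹ = t := by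
      rcases F.conj_mem haN F.v_mem (ne_one_of_orderOf F.ov) with e | e | e
      · exact absurd e h1
      · rcases F.conj_mem haN F.u_mem (ne_one_of_orderOf F.ou) with e' | e' | e'
        · exfalso; refine h3 ?_; rw [e3, e, e', F.comm.eq]
        · exact absurd e' h2
        · exact key x e _ e'
      · rcases F.conj_mem haN (mul_mem F.v_mem F.u_mem) F.mul_ne_one with e' | e' | e'
        · exfalso
          refine h2 ?_
          rw [e3, e] at e'
          calc a * x * a⁻¹ = (t * x)⁻¹ * (t * x * (a * x * a⁻¹)) := by group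
            _ = x := by rw [e', inv_of_orderOf F.orderOf_mul, mul_assoc, F.comm.eq.symm, ← mul_assoc,
                mul_self_of_orderOf F.ov, one_mul]
        · exact (key (t * x) e x e').symm
        · exact absurd e' h3
    intro y hy hy1
    rcases F.mem_four.1 hy with e | e | e | e
    · exact absurd e hy1
    · exact ⟨1, by rw [e]; group⟩
    · exact e ▸ hx'.1
    · exact e ▸ hx'.2
  intro p q hp hq
  obtain ⟨g1, hg1⟩ := exists_conj_mem_sylow T hp
  obtain ⟨g2, hg2⟩ := exists_conj_mem_sylow T hq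
  rw [← hfour] at hg1 hg2
  obtain ⟨k1, hk1⟩ := hmem _ hg1 (ne_one_of_orderOf (((MulAut.conj g1).orderOf_eq p).trans hp))
  obtain ⟨k2, hk2⟩ := hmem _ hg2 (ne_one_of_orderOf (((MulAut.conj g2).orderOf_eq q).trans hq))
  refine ⟨g2⁻¹ * k2⁻¹ * k1 * g1, ?_⟩
  rw [show g2⁻¹ * k2⁻¹ * k1 * g1 * p * (g2⁻¹ * k2⁻¹ * k1 * g1)⁻¹ =
    g2⁻¹ * k2⁻¹ * (k1 * (g1 * p * g1⁻¹) * k1⁻¹) * k2 * g2 by group, hk1, ← hk2]
  group

/-- A Sylow subgroup centralising `t`: one class, or an index two subgroup with one class. -/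
theorem DCent.central_case {t : G} {A : Subgroup G} (hd : DCent t A) (hns : ¬ Group.IsSolvable G)
    (T : Sylow 2 G) (hT : ∀ s ∈ (T : Subgroup G), Commute t s) :
    (∀ a b : G, orderOf a = 2 → orderOf b = 2 → ∃ g, g * a * g⁻¹ = b) ∨
      ∃ (N : Subgroup G) (_ : N.Normal), N.index = 2 ∧
        ∃ (z : N) (A0 : Subgroup N), DCent z A0 ∧
          ∀ a b : N, orderOf a = 2 → orderOf b = 2 → ∃ g, g * a * g⁻¹ = b := by
  classical
  haveI : Fact (Nat.Prime 2) := ⟨Nat.prime_two⟩
  obtain ⟨m, hm, ⟨e⟩, htT, hR⟩ := hd.dihedral hns T hT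
  obtain ⟨j, hj⟩ := T.2.exists_card_eq
  have hcard : Nat.card (T : Subgroup G) = 2 * m := by rw [Nat.card_congr e.toEquiv, DihedralGroup.nat_card]
  by_cases h4 : Nat.card (T : Subgroup G) = 4
  · exact Or.inl (hd.conj_of_four hns T hT h4)
  have hj3 : 3 ≤ j := by
    by_contra hh
    interval_cases j <;> omega
  have hmj : m = 2 ^ (j - 1) := by
    have : 2 ^ j = 2 * 2 ^ (j - 1) := by rw [← pow_succ']; congr 1; omega
    omega
  have hm4 : 4 ≤ m := by rw [hmj]; calc (4 : ℕ) = 2 ^ 2 := by norm_num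
                                     _ ≤ 2 ^ (j - 1) := Nat.pow_le_pow_right two_pos (by omega)
  let CC := {C : ConjClasses G // ∃ g : G, ConjClasses.mk g = C ∧ orderOf g = 2}
  haveI : Finite CC := Subtype.finite
  rcases Cfsg.Agent.S3864.result T j hj3 ⟨hmj ▸ e⟩ with ⟨h1, -⟩ | ⟨h2, ⟨N, hN, hidx⟩, -⟩ | ⟨-, h3⟩
  · left
    intro a b ha hb
    haveI : Subsingleton CC := (Nat.card_eq_one_iff_unique.1 h1).1
    have := congrArg Subtype.val (Subsingleton.elim (α := CC) ⟨_, a, rfl, ha⟩ ⟨_, b, rfl, hb⟩)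
    exact isConj_iff.1 (ConjClasses.mk_eq_mk_iff_isConj.1 this)
  · right
    haveI := hN
    -- `t` is a square in `T`
    obtain ⟨s, hsR, hst⟩ : ∃ s ∈ (T : Subgroup G) ⊓ A, s * s = t := by
      obtain ⟨g, hg⟩ := (isCyclic_of_unique_involution (T.2.to_le (inf_le_left : (T : Subgroup G) ⊓ A ≤ _))
        (fun a ha b hb => hd.comm a ha.2 b hb.2) (fun a ha => hd.unique a ha.2)).exists_generator
      have hgo : orderOf (g : G) = m := by
        rw [Subgroup.orderOf_coe, orderOf_eq_card_of_forall_mem_zpowers hg, hR]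
      have hm2 : m = 2 * 2 ^ (j - 2) := by rw [hmj, ← pow_succ']; congr 1; omega
      have hq2 : 2 ^ (j - 2) = 2 * 2 ^ (j - 3) := by rw [← pow_succ']; congr 1; omega
      refine ⟨(g : G) ^ 2 ^ (j - 3), pow_mem g.2 _, ?_⟩
      rw [← pow_add, ← two_mul, ← hq2]
      have hp1 : (g : G) ^ 2 ^ (j - 2) ≠ 1 := pow_ne_one_of_lt_orderOf (pow_ne_zero _ two_ne_zero) (by
        rw [hgo]; have := pow_pos (two_pos : (0 : ℕ) < 2) (j - 2); omega)
      refine (hd.unique _ (pow_mem g.2.2 _) ?_).resolve_left hp1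
      rw [← pow_add, ← two_mul, ← hm2, ← hgo, pow_orderOf_eq_one]
    have htN : t ∈ N := by
      rw [← hst]
      exact (Subgroup.mul_mem_iff_of_index_two hidx).2 Iff.rfl
    have hNns : ¬ Group.IsSolvable N := fun h => by
      haveI := h
      haveI : Group.IsSolvable (G ⧸ N) := by
        haveI : IsCyclic (G ⧸ N) := isCyclic_of_prime_card (p := 2) (by rw [← Subgroup.index_eq_card, hidx])
        exact Group.isSolvable_of_comm fun a b => IsCyclic.commGroup.mul_comm a b
      exact hns (Group.isSolvable_of_ker_le_range N.subtype (QuotientGroup.mk' N)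
        (by rw [QuotientGroup.ker_mk', Subgroup.range_subtype]))
    -- some reflection of `T` lies in `N`
    obtain ⟨x, hxN, hxT, hxA⟩ : ∃ x ∈ N, x ∈ (T : Subgroup G) ∧ x ∉ A := by
      by_contra h
      push Not at h
      refine hNns ?_
      obtain ⟨P, hP⟩ := ((T.2).comap_of_injective N.subtype N.subtype_injective).exists_le_sylow
      have hPe : ((T : Subgroup G).comap N.subtype) = (P : Subgroup N) := by
        refine le_antisymm hP ?_
        obtain ⟨g, hg⟩ := MulAction.exists_smul_eq G (Classical.choose (P.2.map N.subtype).exists_le_sylow) T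
        -- compare orders
        have hc1 : Nat.card ((T : Subgroup G).comap N.subtype) = Nat.card ((T : Subgroup G) ⊓ N : Subgroup G) := by
          rw [← Subgroup.card_subtype, Subgroup.map_comap_eq, Subgroup.range_subtype, inf_comm]
        have hTN : ((T : Subgroup G) ⊓ N).relIndex (T : Subgroup G) ≤ 2 := by
          rw [Subgroup.inf_relIndex_left]
          exact (Nat.le_of_dvd (by rw [hidx]; exact two_pos) (Subgroup.relIndex_dvd_index_of_normal N _)).trans hidx.le
        have hc2 := Subgroup.relIndex_mul_relIndex ⊥ ((T : Subgroup G) ⊓ N) (T : Subgroup G) bot_le inf_le_left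
        refine (Subgroup.eq_of_le_of_card_ge hP ?_).ge
        rw [hc1]
        have hPle : Nat.card (P : Subgroup N) * 2 ≤ Nat.card (T : Subgroup G) := by
          obtain ⟨i, hi⟩ := P.2.exists_card_eq
          have hP' := P.card_eq_multiplicity
          have hT' := T.card_eq_multiplicity
          have hG : Nat.card G = Nat.card N * 2 := by rw [← hidx, N.card_mul_index]
          have hf : (Nat.card G).factorization 2 = (Nat.card N).factorization 2 + 1 := by
            rw [hG, Nat.factorization_mul Nat.card_pos.ne' two_ne_zero, Finsupp.add_apply,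
              Nat.Prime.factorization_self Nat.prime_two]
          rw [hP', hT', hf, pow_succ]
        have hc3 : Nat.card (T : Subgroup G) ≤ Nat.card ((T : Subgroup G) ⊓ N : Subgroup G) * 2 := by
          rw [Subgroup.relIndex_bot_left, Subgroup.relIndex_bot_left] at hc2
          rw [← hc2]
          exact Nat.mul_le_mul_left _ hTN
        omega
      haveI hcyc : IsCyclic ((T : Subgroup G) ⊓ A : Subgroup G) := isCyclic_of_unique_involution
        (T.2.to_le inf_le_left) (fun a ha b hb => hd.comm a ha.2 b hb.2) (fun a ha => hd.unique a ha.2)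
      refine solvable_of_cyclic P ?_
      rw [← hPe]
      refine isCyclic_of_injective
        (((N.subtype).comp ((T : Subgroup G).comap N.subtype).subtype).codRestrict ((T : Subgroup G) ⊓ A)
          fun y => ⟨y.2, h _ (y : N).2 y.2⟩) fun y y' hyy => ?_
      exact Subtype.ext (Subtype.ext (show ((y : N) : G) = ((y' : N) : G) from congrArg (fun w : ((T : Subgroup G) ⊓ A : Subgroup G) => (w : G)) hyy))
    refine ⟨N, hN, hidx, ⟨t, htN⟩, A.comap N.subtype, ⟨?_, ?_, ?_, ?_, ?_, ?_, ?_, ?_⟩, ?_⟩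
    · rw [← Subgroup.orderOf_coe]; exact hd.ord
    · exact fun a ha => Subtype.ext (hd.le (a : G) ha).eq
    · exact hd.mem
    · exact fun a ha b hb => Subtype.ext (hd.comm (a : G) ha (b : G) hb).eq
    · intro g hg hgA
      obtain ⟨h1, h2⟩ := hd.out_inv (g : G) (congrArg Subtype.val hg.eq) hgA
      exact ⟨Subtype.ext h1, fun a ha => Subtype.ext (h2 (a : G) ha)⟩
    · exact fun g k hg hgA hk hkA => hd.out_mul (g : G) (k : G) (congrArg Subtype.val hg.eq) hgA
        (congrArg Subtype.val hk.eq) hkA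
    · exact ⟨⟨x, hxN⟩, Subtype.ext (hT x hxT).eq, hxA⟩
    · intro a ha h
      rcases hd.unique (a : G) ha (congrArg Subtype.val h) with e' | e'
      · exact Or.inl (Subtype.ext e')
      · exact Or.inr (Subtype.ext e')
    · -- one class in `N`
      obtain ⟨r, hrN, hr⟩ : ∃ r, r ∉ N ∧ orderOf r = 2 := by
        by_contra hall
        push Not at hall
        have hall' : ∀ r, orderOf r = 2 → r ∈ N := fun r hr => by
          by_contra h
          exact hall r h hr
        have hTN : (T : Subgroup G) ≤ N := by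
          intro g hg
          by_cases hgA : g ∈ A
          · have h1 : g * x ∉ A := fun h => hxA (by simpa using mul_mem (inv_mem hgA) h)
            have h2 := (hd.out_inv (g * x) ((hT g hg).mul_right (hT x hxT)) h1).1
            have h3 := hall' _ (orderOf_two_of_mul_self h2 fun e => h1 (e ▸ one_mem A))
            have := mul_mem h3 (inv_mem hxN)
            rwa [mul_inv_cancel_right] at this
          · exact hall' g (orderOf_two_of_mul_self (hd.out_inv g (hT g hg) hgA).1 fun e => hgA (e ▸ one_mem A))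
        have h5 := Subgroup.index_dvd_of_le hTN
        rw [hidx] at h5
        exact T.not_dvd_index h5
      have hconjN : ∀ a ∈ N, orderOf a = 2 → ∃ g, g * t * g⁻¹ = a := by
        intro a ha hao
        by_contra hna
        have d1 : ConjClasses.mk t ≠ ConjClasses.mk r := fun h => hrN (by
          obtain ⟨g, hg⟩ := isConj_iff.1 (ConjClasses.mk_eq_mk_iff_isConj.1 h)
          exact hg ▸ hN.conj_mem t htN g)
        have d2 : ConjClasses.mk a ≠ ConjClasses.mk r := fun h => hrN (by
          obtain ⟨g, hg⟩ := isConj_iff.1 (ConjClasses.mk_eq_mk_iff_isConj.1 h)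
          exact hg ▸ hN.conj_mem a ha g)
        have d3 : ConjClasses.mk t ≠ ConjClasses.mk a := fun h =>
          hna (isConj_iff.1 (ConjClasses.mk_eq_mk_iff_isConj.1 h))
        haveI : Fintype CC := Fintype.ofFinite _
        have h2' : Fintype.card CC = 2 := by rw [← Nat.card_eq_fintype_card]; exact h2
        let c1 : CC := ⟨_, t, rfl, hd.ord⟩
        let c2 : CC := ⟨_, r, rfl, hr⟩
        let c3 : CC := ⟨_, a, rfl, hao⟩
        have := Finset.card_le_univ ({c1, c2, c3} : Finset CC)
        rw [h2', Finset.card_insert_of_notMem (by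
            simp only [Finset.mem_insert, Finset.mem_singleton]
            exact not_or.2 ⟨fun h => d1 (congrArg Subtype.val h), fun h => d3 (congrArg Subtype.val h)⟩),
          Finset.card_insert_of_notMem (by
            simp only [Finset.mem_singleton]
            exact fun h => d2.symm (congrArg Subtype.val h)), Finset.card_singleton] at this
        omega
      -- an element outside `N` centralising `t`
      obtain ⟨d, hdT, hdN⟩ : ∃ d ∈ (T : Subgroup G), d ∉ N := by
        by_contra hall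
        push Not at hall
        have h5 := Subgroup.index_dvd_of_le (show (T : Subgroup G) ≤ N from hall)
        rw [hidx] at h5
        exact T.not_dvd_index h5
      have hN' : ∀ a : N, orderOf a = 2 → ∃ g : N, g * ⟨t, htN⟩ * g⁻¹ = a := by
        intro a ha
        obtain ⟨g, hg⟩ := hconjN (a : G) a.2 (by rw [Subgroup.orderOf_coe]; exact ha)
        by_cases hgN : g ∈ N
        · exact ⟨⟨g, hgN⟩, Subtype.ext hg⟩
        · refine ⟨⟨g * d, (Subgroup.mul_mem_iff_of_index_two hidx).2 (iff_of_false hgN hdN)⟩, Subtype.ext ?_⟩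
          show g * d * t * (g * d)⁻¹ = a
          rw [← hg, show g * d * t * (g * d)⁻¹ = g * (d * t * d⁻¹) * g⁻¹ by group, ← (hT d hdT).eq,
            mul_inv_cancel_right]
      intro a b ha hb
      obtain ⟨g, hg⟩ := hN' a ha
      obtain ⟨k, hk⟩ := hN' b hb
      exact ⟨k * g⁻¹, by rw [← hk, ← hg]; group⟩
  · exact absurd (solvable_of_complement rfl h3) hns

end CfsgLib.DGroup48
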