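import Mathlib
import Cfsg.Agent.DGroup48.Central
import Cfsg.Agent.DGroup48.PGL
import Cfsg.Agent.Constrained.Basic

/-!
The case of a unique involution in the abelian part.
-/

set_option autoImplicit false

namespace CfsgLib.DGroup48

universe u

/-- Statement of the case where no Sylow subgroup centralises the involution. -/
def OuterStatement : Prop :=
  ∀ {G : Type u} [Group G] [Finite G], Cfsg.oddCore G = ⊥ → ¬ Group.IsSolvable G → ∀ {t : G} {A : Subgroup G},
    DCent t A → (∀ a ∈ A, ∀ k : ℕ, a ^ 2 ^ k = 1 → a = 1 ∨ a = t) → (∀ T : Sylow 2 G, Nat.card T ≠ 4) →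
    ∃ (N : Subgroup G) (_ : N.Normal), N.index = 2 ∧
      (∃ (z : N) (A0 : Subgroup N), DCent z A0 ∧
        ∀ a b : N, orderOf a = 2 → orderOf b = 2 → ∃ g, g * a * g⁻¹ = b) ∧
      ∃ (T : Sylow 2 G) (m : ℕ), 2 ≤ m ∧ Nonempty ((T : Subgroup G) ≃* DihedralGroup m)

theorem not_solvable_quotient {G : Type u} [Group G] [Finite G] (hns : ¬ Group.IsSolvable G)
    (N : Subgroup G) [N.Normal] (hN : Odd (Nat.card N)) : ¬ Group.IsSolvable (G ⧸ N) := fun h => by
  haveI := h
  haveI : Group.IsSolvable N := Cfsg.Agent.S0205.result hN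
  exact hns (Group.isSolvable_of_ker_le_range N.subtype (QuotientGroup.mk' N)
    (by rw [QuotientGroup.ker_mk', Subgroup.range_subtype]))

theorem reduced_of_index_two {G : Type u} [Group G] [Finite G] (hcore : Cfsg.oddCore G = ⊥)
    (hns : ¬ Group.IsSolvable G) {N : Subgroup G} [N.Normal] (hidx : N.index = 2) {z : N} {A0 : Subgroup N}
    (hd : DCent z A0) (hconj : ∀ a b : N, orderOf a = 2 → orderOf b = 2 → ∃ g, g * a * g⁻¹ = b)
    (T : Sylow 2 G) {m : ℕ} (hm : 2 ≤ m) (e : (T : Subgroup G) ≃* DihedralGroup m) :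
    ∃ (F : Type) (_ : Field F) (_ : Fintype F), 3 < Fintype.card F ∧
      Nonempty (G ≃* Matrix.ProjGenLinGroup (Fin 2) F) := by
  have hNns : ¬ Group.IsSolvable N := fun h => by
    haveI := h
    haveI : Fact (Nat.Prime 2) := ⟨Nat.prime_two⟩
    haveI : IsCyclic (G ⧸ N) := isCyclic_of_prime_card (p := 2) (by rw [← Subgroup.index_eq_card, hidx])
    haveI : Group.IsSolvable (G ⧸ N) := Group.isSolvable_of_comm fun a b => IsCyclic.commGroup.mul_comm a b
    exact hns (Group.isSolvable_of_ker_le_range N.subtype (QuotientGroup.mk' N)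
      (by rw [QuotientGroup.ker_mk', Subgroup.range_subtype]))
  obtain ⟨F, iF, iF', hodd, h3, ⟨f⟩⟩ := hd.psl_of_one_class (oddCore_of_normal hcore) hNns hconj
  exact ⟨F, iF, iF', h3, mulEquiv_pgl hodd h3 N hidx f hcore T hm e⟩

/-- The theorem when `O(G) = 1`. -/
theorem reduced (houter : OuterStatement.{u}) {G : Type u} [Group G] [Finite G] (hcore : Cfsg.oddCore G = ⊥)
    (hns : ¬ Group.IsSolvable G) {t : G} {A : Subgroup G} (hd : DCent t A) :
    ∃ (F : Type) (_ : Field F) (_ : Fintype F), 3 < Fintype.card F ∧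
      (Nonempty (G ≃* Matrix.ProjectiveSpecialLinearGroup (Fin 2) F) ∨
        Nonempty (G ≃* Matrix.ProjGenLinGroup (Fin 2) F)) := by
  classical
  haveI : Fact (Nat.Prime 2) := ⟨Nat.prime_two⟩
  by_cases hcen : ∃ T : Sylow 2 G, ∀ s ∈ (T : Subgroup G), Commute t s
  · obtain ⟨T, hT⟩ := hcen
    rcases hd.central_case hns T hT with hconj | ⟨N, hN, hidx, z, A0, hd0, hconj⟩
    · obtain ⟨F, iF, iF', -, h3, hf⟩ := hd.psl_of_one_class hcore hns hconj
      exact ⟨F, iF, iF', h3, Or.inl hf⟩
    · obtain ⟨m, hm, ⟨e⟩, -, -⟩ := hd.dihedral hns T hT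
      haveI := hN
      obtain ⟨F, iF, iF', h3, hf⟩ := reduced_of_index_two hcore hns hidx hd0 hconj T hm e
      exact ⟨F, iF, iF', h3, Or.inr hf⟩
  · push Not at hcen
    -- a Sylow subgroup of the centraliser
    set C := Subgroup.centralizer ({t} : Set G) with hC
    let P : Sylow 2 C := default
    set S := (P : Subgroup C).map C.subtype with hS
    have hSp : IsPGroup 2 S := P.2.map _
    have hSC : ∀ s ∈ S, Commute t s := fun s hs =>
      (Subgroup.mem_centralizer_singleton_iff.1 (Subgroup.map_subtype_le _ hs)).symm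
    have hmax : ∀ Q : Subgroup G, IsPGroup 2 Q → (∀ s ∈ Q, Commute t s) → S ≤ Q → Q ≤ S := by
      intro Q hQ hQc hle g hg
      have hQC : Q ≤ C := fun s hs => Subgroup.mem_centralizer_singleton_iff.2 (hQc s hs).eq.symm
      have h := P.3 (hQ.comap_of_injective C.subtype C.subtype_injective) (fun y hy => hle ⟨y, hy, rfl⟩)
      exact ⟨⟨g, hQC hg⟩, h ▸ hg, rfl⟩
    -- the 2-elements of `A` lie in `S`
    have hAS : ∀ a ∈ A, ∀ k : ℕ, a ^ 2 ^ k = 1 → a ∈ S := by
      intro a ha k hk
      have hz := zpowers_isPGroup (r := 2) (x := a) (k := k) hk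
      have hn : S ≤ Subgroup.normalizer (Subgroup.zpowers a : Set G) := fun s hs =>
        mem_normalizer_of_conj_mem fun y hy => by
          obtain ⟨i, rfl⟩ := hy
          show s * a ^ i * s⁻¹ ∈ _
          rw [← conj_zpow]
          refine zpow_mem ?_ i
          by_cases hsA : s ∈ A
          · rw [(hd.comm s hsA a ha).eq, mul_inv_cancel_right]; exact Subgroup.mem_zpowers a
          · rw [(hd.out_inv s (hSC s hs) hsA).2 a ha]; exact inv_mem (Subgroup.mem_zpowers a)
      refine hmax _ (hSp.to_sup_of_normal_right' hz hn) ?_ le_sup_left (Subgroup.mem_sup_right (Subgroup.mem_zpowers a))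
      intro s hs
      have : S ⊔ Subgroup.zpowers a ≤ C := sup_le (Subgroup.map_subtype_le _)
        (Subgroup.zpowers_le.2 (Subgroup.mem_centralizer_singleton_iff.2 (hd.le a ha).eq.symm))
      exact (Subgroup.mem_centralizer_singleton_iff.1 (this hs)).symm
    obtain ⟨T, hST⟩ := hSp.exists_le_sylow
    have hne : S ≠ (T : Subgroup G) := fun e => by
      obtain ⟨s, hs, hns'⟩ := hcen T
      exact hns' (hSC s (e.symm ▸ hs))
    obtain ⟨n, hnT, hn, hnS⟩ := exists_normalizer_gt T.2 hST hne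
    have hnt : ¬ Commute t n := fun h => hnS (by
      refine hmax (S ⊔ Subgroup.zpowers n) (T.2.to_le (sup_le hST (Subgroup.zpowers_le.2 hnT))) ?_
        le_sup_left (Subgroup.mem_sup_right (Subgroup.mem_zpowers n))
      intro s hs
      have : S ⊔ Subgroup.zpowers n ≤ C := sup_le (Subgroup.map_subtype_le _)
        (Subgroup.zpowers_le.2 (Subgroup.mem_centralizer_singleton_iff.2 h.eq.symm))
      exact (Subgroup.mem_centralizer_singleton_iff.1 (this hs)).symm)
    -- hence `t` is the only non-trivial 2-element of `A`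
    have ht2 : ∀ a ∈ A, ∀ k : ℕ, a ^ 2 ^ k = 1 → a = 1 ∨ a = t := by
      intro a ha k hk
      by_cases h1 : a * a = 1
      · exact hd.unique a ha h1
      exfalso
      -- a power of order four
      have hk2 : ∃ j, a ^ 2 ^ j * a ^ 2 ^ j ≠ 1 ∧ (a ^ 2 ^ j * a ^ 2 ^ j) * (a ^ 2 ^ j * a ^ 2 ^ j) = 1 := by
        have hex : ∃ j, a ^ 2 ^ j = 1 := ⟨k, hk⟩
        have h2 : 2 ≤ Nat.find hex := by
          by_contra hlt
          have := Nat.find_spec hex
          interval_cases hh : Nat.find hex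
          · exact h1 (by simp at this; rw [this, one_mul])
          · exact h1 (by rwa [pow_one, pow_two] at this)
        obtain ⟨j, hj⟩ := Nat.exists_eq_add_of_le h2
        refine ⟨j, ?_, ?_⟩
        · rw [← pow_two, ← pow_mul, ← pow_succ]
          exact Nat.find_min hex (by omega)
        · have := Nat.find_spec hex
          rw [hj] at this
          rw [← pow_two, ← pow_two, ← pow_mul, ← pow_mul, show 2 ^ j * (2 * 2) = 2 ^ (2 + j) by rw [pow_add]; ring]
          exact this
      obtain ⟨j, hj1, hj2⟩ := hk2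
      set b := a ^ 2 ^ j with hb
      have hbA : b ∈ A := pow_mem ha _
      have hbb : b * b = t := (hd.unique _ (mul_mem hbA hbA) hj2).resolve_left hj1
      have hbS : b ∈ S := hAS b hbA 2 (by
        rw [show b ^ 2 ^ 2 = (b * b) * (b * b) by norm_num [pow_succ, mul_assoc]]
        exact hj2)
      have htS : t ∈ S := hbb ▸ mul_mem hbS hbS
      set u := n * t * n⁻¹ with hu
      have huS : u ∈ S := (Subgroup.mem_normalizer_iff.1 hn t).1 htS
      have huu : u * u = 1 := by
        rw [hu, show n * t * n⁻¹ * (n * t * n⁻¹) = n * (t * t) * n⁻¹ by group, mul_self_of_orderOf hd.ord]; group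
      have hub : u * b = b * u := by
        have h3 : n⁻¹ * b * n⁻¹⁻¹ ∈ S := (Subgroup.mem_normalizer_iff.1 (inv_mem hn) b).1 hbS
        have h4 := (hSC _ h3).eq
        rw [hu]
        calc n * t * n⁻¹ * b = n * (t * (n⁻¹ * b * n⁻¹⁻¹)) * n⁻¹ := by group
          _ = n * ((n⁻¹ * b * n⁻¹⁻¹) * t) * n⁻¹ := by rw [h4]
          _ = b * (n * t * n⁻¹) := by group
      by_cases huA : u ∈ A
      · rcases hd.unique u huA huu with e | e
        · exact ne_one_of_orderOf hd.ord (conj_eq_one_iff.1 e)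
        · exact hnt (mul_inv_eq_iff_eq_mul.1 e).symm
      · have h5 := (hd.out_inv u (hSC u huS) huA).2 b hbA
        rw [hub, mul_inv_cancel_right] at h5
        apply hj1
        nth_rw 2 [h5]
        exact mul_inv_cancel b
    have hS4 : ∀ T : Sylow 2 G, Nat.card T ≠ 4 := by
      intro T' h4
      -- a four-group at `t` is then a Sylow subgroup
      obtain ⟨x, hx, hxA⟩ := hd.ex_out
      have F : Frame t x := ⟨hd.ord, orderOf_two_of_mul_self (hd.out_inv x hx hxA).1
        (fun h => hxA (h ▸ one_mem A)), fun h => hxA (h ▸ hd.mem), hx⟩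
      obtain ⟨T'', hT''⟩ := F.isPGroup_four.exists_le_sylow
      have he : F.four = (T'' : Subgroup G) := Subgroup.eq_of_le_of_card_ge hT'' (by
        rw [F.card_four, ← h4, T''.card_eq_multiplicity, T'.card_eq_multiplicity])
      obtain ⟨s, hs, hns'⟩ := hcen T''
      exact hns' (congrArg Subtype.val (F.four_comm.is_comm.comm ⟨t, F.v_mem⟩ ⟨s, he ▸ hs⟩))
    obtain ⟨N, hN, hidx, ⟨z, A0, hd0, hconj⟩, T1, m, hm, ⟨e⟩⟩ := houter hcore hns hd ht2 hS4
    haveI := hN
    obtain ⟨F, iF, iF', h3, hf⟩ := reduced_of_index_two hcore hns hidx hd0 hconj T1 hm e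
    exact ⟨F, iF, iF', h3, Or.inr hf⟩

/-- The case of a unique involution. -/
theorem conclusion_of_dcent (houter : OuterStatement.{u}) {G : Type u} [Group G] [Finite G]
    (hns : ¬ Group.IsSolvable G) {t : G} {A : Subgroup G} (hd : DCent t A) : Conclusion G := by
  haveI : Fact (Nat.Prime 2) := ⟨Nat.prime_two⟩
  haveI : (Cfsg.oddCore G).Normal := Subgroup.sSup_normal _ fun _ h => h.1
  have ho : Odd (Nat.card (Cfsg.oddCore G)) := Nat.coprime_two_right.1 Constrained.pPrimeCore_coprime
  obtain ⟨F, iF, iF', h3, hf⟩ := reduced houter (G := G ⧸ Cfsg.oddCore G)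
    Constrained.pPrimeCore_quotient_pPrimeCore (not_solvable_quotient hns _ ho) (hd.map _ ho)
  exact ⟨Cfsg.oddCore G, inferInstance, Or.inl ho, F, iF, iF', h3, hf⟩

/-- A D-group centraliser with a unique involution in its abelian part. -/
theorem conclusion_of_rank_one (houter : OuterStatement.{u}) {G : Type u} [Group G] [Finite G]
    {H A : Subgroup G} (h : Hyp H A) (hns : ¬ Group.IsSolvable G) (hnel : ¬ ∀ x ∈ H, x ^ 2 = 1) {t : G}
    (ht : t ∈ A) (ht2 : orderOf t = 2) (hu : ∀ a ∈ A, a * a = 1 → a = 1 ∨ a = t) : Conclusion G := by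
  have I := inverted_of_hyp h hnel
  have hj := isCentralInv_of_mem I h ht ht2
  have hC : ∀ g, Commute t g → g ∈ H := fun g hg => h.mem_of_commute hj hg.eq.symm
  obtain ⟨x, hx, hxA⟩ := SetLike.exists_of_lt h.lt
  refine conclusion_of_dcent houter hns (t := t) (A := A)
    ⟨ht2, fun a ha => (hj.2.2 a (h.lt.le ha)).symm, ht, fun a ha b hb => I.comm a ha b hb,
      fun g hg hgA => ⟨by rw [← pow_two]; exact h.sq g (hC g hg) hgA, fun a ha => I.inv g (hC g hg) hgA a ha⟩,
      fun g k hg hgA hk hkA => I.prod g (hC g hg) hgA k (hC k hk) hkA,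
      ⟨x, (hj.2.2 x hx).symm, hxA⟩, hu⟩

end CfsgLib.DGroup48
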